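import Cfsg.Agent.H905.MdD
import Cfsg.Agent.OddHalf.NI.Mult.Torus

/-!
# Simple modules in the defining characteristic: the edges of one type (helper2)

* `ES` : the stabiliser of the edge of type `i`, `|ES| ≤ 2 |W_J|`;
* **`edge_bound`** : `i ∉ J`, `dim V^U = 1`: `|W : W_J| * dim Le {i} ≤ 2 dim V`.
-/

set_option autoImplicit false
set_option linter.unusedSectionVars false
set_option linter.style.haveILetI false

namespace Cfsg.Agent.H2.Ppd

open CoxeterSystem Cfsg.Agent.ChevalleyStructure.CoxeterGeom Cfsg.Agent.Tits.Roots Cfsg.Agent.Tits.Core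
  Cfsg.Agent.Tits.Exchange Cfsg.Agent.Nodes.Reps Cfsg.Agent.Nodes.BNOf Cfsg.Agent.Nodes.StabComb
  Cfsg.Agent.Nodes.Bruhat Cfsg.Agent.Nodes.OppDec Cfsg.Agent.Nodes.LeviDec Cfsg.Agent.KFacts.RgdOpp
  Cfsg.Agent.Omega.CR Cfsg.Agent.Omega.FOne.Lift.Sd Cfsg.Agent.H905.Md

variable {I W : Type*} [Fintype I] [DecidableEq I] [Group W] {M : CoxeterMatrix I}
  {cs : CoxeterSystem M W} {A : I → I → ℤ} {h : IsCartan M A}

theorem comm_of_rep {w : W} {i : I} (hw : rep cs h w (sr i) = sr i) : w * cs.simple i = cs.simple i * w := by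
  have h1 := Cfsg.Agent.OddHalf.NI.Mult.mul_simple_of_rep (cs := cs) (h := h) hw
  rwa [mul_inv_eq_iff_eq_mul] at h1

theorem comm_of_rep_neg {w : W} {i : I} (hw : rep cs h w (sr i) = -sr i) : w * cs.simple i = cs.simple i * w := by
  have h1 : rep cs h (w * cs.simple i) (sr i) = sr i := by
    rw [rep_mul_apply, rep_simple_sr, map_neg, hw, neg_neg]
  have h2 := comm_of_rep h1
  have h3 : w * cs.simple i * cs.simple i = cs.simple i * w * cs.simple i := by rw [h2, mul_assoc]
  exact mul_right_cancel h3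

/-- the stabiliser of the edge of type `i` -/
def ES (cs : CoxeterSystem M W) (h : IsCartan M A) (J : Set I) (i : I) : Subgroup W where
  carrier := {w | (rep cs h w (sr i) = sr i ∧ w ∈ WJ cs J) ∨ (rep cs h w (sr i) = -sr i ∧ w * cs.simple i ∈ WJ cs J)}
  one_mem' := Or.inl ⟨by rw [map_one]; rfl, one_mem _⟩
  mul_mem' := by
    rintro a b (⟨ha, ha'⟩ | ⟨ha, ha'⟩) (⟨hb, hb'⟩ | ⟨hb, hb'⟩)
    · exact Or.inl ⟨by rw [rep_mul_apply, hb, ha], mul_mem ha' hb'⟩
    · refine Or.inr ⟨by rw [rep_mul_apply, hb, map_neg, ha], ?_⟩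
      rw [mul_assoc]
      exact mul_mem ha' hb'
    · refine Or.inr ⟨by rw [rep_mul_apply, hb, ha], ?_⟩
      rw [mul_assoc, comm_of_rep hb, ← mul_assoc]
      exact mul_mem ha' hb'
    · refine Or.inl ⟨by rw [rep_mul_apply, hb, map_neg, ha, neg_neg], ?_⟩
      have h1 : a * b = (a * cs.simple i) * (b * cs.simple i) := by
        rw [comm_of_rep_neg hb, mul_assoc a, ← mul_assoc (cs.simple i), cs.simple_mul_simple_self, one_mul]
      rw [h1]
      exact mul_mem ha' hb'
  inv_mem' := by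
    rintro a (⟨ha, ha'⟩ | ⟨ha, ha'⟩)
    · refine Or.inl ⟨?_, inv_mem ha'⟩
      conv_lhs => rw [← ha]
      rw [← rep_mul_apply, inv_mul_cancel, map_one]
      rfl
    · refine Or.inr ⟨?_, ?_⟩
      · have h1 : rep cs h a⁻¹ (rep cs h a (sr i)) = sr i := by
          rw [← rep_mul_apply, inv_mul_cancel, map_one]
          rfl
        rw [ha, map_neg] at h1
        exact neg_eq_iff_eq_neg.1 h1
      · have h1 : a⁻¹ * cs.simple i = (a * cs.simple i)⁻¹ := by
          rw [mul_inv_rev, cs.inv_simple, eq_comm, mul_inv_eq_iff_eq_mul, mul_assoc, ← comm_of_rep_neg ha,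
            inv_mul_cancel_left]
        rw [h1]
        exact inv_mem ha'

theorem mem_ES {J : Set I} {i : I} {w : W} : w ∈ ES cs h J i ↔
    (rep cs h w (sr i) = sr i ∧ w ∈ WJ cs J) ∨ (rep cs h w (sr i) = -sr i ∧ w * cs.simple i ∈ WJ cs J) := Iff.rfl

theorem mem_ES_of_sameEdge {J : Set I} {i : I} {w w' : W} (hs : SameEdge cs h J w i w' i) : w⁻¹ * w' ∈ ES cs h J i := by
  rcases hs with ⟨h1, h2⟩ | ⟨h1, h2⟩
  · refine Or.inl ⟨?_, h2⟩
    rw [rep_mul_apply, ← h1, ← rep_mul_apply, inv_mul_cancel, map_one]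
    rfl
  · refine Or.inr ⟨?_, by rwa [mul_assoc]⟩
    have h3 : rep cs h w' (sr i) = -rep cs h w (sr i) := by rw [h1, neg_neg]
    rw [rep_mul_apply, h3, map_neg, ← rep_mul_apply, inv_mul_cancel, map_one]
    rfl

theorem card_ES_le [Finite W] (J : Set I) (i : I) : Nat.card (ES cs h J i) ≤ 2 * Nat.card (WJ cs J) := by
  classical
  have hs : ∀ w : ES cs h J i, ¬ (w : W) ∈ WJ cs J → (w : W) * cs.simple i ∈ WJ cs J := by
    rintro ⟨w, ⟨_, h1⟩ | ⟨_, h1⟩⟩ hw
    · exact absurd h1 hw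
    · exact h1
  let f : ES cs h J i → WJ cs J ⊕ WJ cs J := fun w =>
    if hw : (w : W) ∈ WJ cs J then Sum.inl ⟨w, hw⟩ else Sum.inr ⟨w * cs.simple i, hs w hw⟩
  have hf : Function.Injective f := by
    intro a b hab
    simp only [f] at hab
    by_cases ha : (a : W) ∈ WJ cs J <;> by_cases hb : (b : W) ∈ WJ cs J
    · rw [dif_pos ha, dif_pos hb, Sum.inl.injEq, Subtype.mk.injEq] at hab
      exact Subtype.ext hab
    · rw [dif_pos ha, dif_neg hb] at hab
      cases hab
    · rw [dif_neg ha, dif_pos hb] at hab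
      cases hab
    · rw [dif_neg ha, dif_neg hb, Sum.inr.injEq, Subtype.mk.injEq] at hab
      exact Subtype.ext (mul_right_cancel hab)
  have h1 := Nat.card_le_card_of_injective f hf
  rwa [Nat.card_sum, ← two_mul] at h1

section dim

variable {Y : Type*} [Group Y] {p : ℕ} {T : Subgroup Y} {n : I → Y} {X : (I → ℤ) → Subgroup Y}
  {k V : Type*} [Field k] [AddCommGroup V] [Module k V] (R : RGD cs h p T n X) [Finite Y] [Finite W] [Fact p.Prime]
  [CharP k p] {ρ : Y →* Module.End k V} [FiniteDimensional k V]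
  (hirr : ∀ L : Submodule k V, Ivt ρ (GG cs h T X) L → L = ⊥ ∨ L = ⊤)
include R hirr

/-- **The edges of one type.** -/
theorem edge_bound [Nontrivial V] (hD : Module.finrank k (D cs h X ρ) = 1) (i : I)
    (h2 : 2 ≤ Module.finrank k (Le cs h T X ρ {i})) :
    (WJ cs (Jx cs h X ρ)).index * Module.finrank k (Le cs h T X ρ {i}) ≤ 2 * Module.finrank k V := by
  classical
  set J := Jx cs h X ρ with hJ
  have := Fintype.ofFinite (W ⧸ WJ cs J)
  have := Fintype.ofFinite (W ⧸ ES cs h J i)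
  have key := dim_ge R hirr (α := W ⧸ WJ cs J) (β := W ⧸ ES cs h J i) Quotient.out (fun a a' haa hmem => by
    apply haa
    rw [← QuotientGroup.out_eq' a, ← QuotientGroup.out_eq' a']
    exact QuotientGroup.eq.2 hmem) Quotient.out (fun _ => i) (fun b b' hbb hs => by
    apply hbb
    rw [← QuotientGroup.out_eq' b, ← QuotientGroup.out_eq' b']
    exact QuotientGroup.eq.2 (mem_ES_of_sameEdge hs))
  rw [hD, mul_one, Finset.sum_const, Finset.card_univ, smul_eq_mul, ← Nat.card_eq_fintype_card,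
    ← Nat.card_eq_fintype_card] at key
  have h3 := finrank_Io R hirr i
  rw [hD] at h3
  have e1 : Nat.card (W ⧸ WJ cs J) = (WJ cs J).index := rfl
  have e2 : Nat.card (W ⧸ ES cs h J i) = (ES cs h J i).index := rfl
  rw [e1, e2] at key
  have h4 := (WJ cs J).index_mul_card
  have h5 := (ES cs h J i).index_mul_card
  have h6 := card_ES_le (cs := cs) (h := h) J i
  have h7 : 0 < Nat.card (WJ cs J) := Nat.card_pos
  have h8 : (WJ cs J).index ≤ 2 * (ES cs h J i).index := by
    refine Nat.le_of_mul_le_mul_right ?_ h7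
    calc (WJ cs J).index * Nat.card (WJ cs J) = (ES cs h J i).index * Nat.card (ES cs h J i) := by rw [h4, h5]
      _ ≤ (ES cs h J i).index * (2 * Nat.card (WJ cs J)) := Nat.mul_le_mul_left _ h6
      _ = 2 * (ES cs h J i).index * Nat.card (WJ cs J) := by ring
  obtain ⟨d, hd⟩ : ∃ d, Module.finrank k (Le cs h T X ρ {i}) = d + 2 :=
    ⟨Module.finrank k (Le cs h T X ρ {i}) - 2, by omega⟩
  have h9 : d ≤ Module.finrank k (Io cs h T X ρ i) := by omega
  rw [hd]
  have h10 : (WJ cs J).index * d ≤ 2 * ((ES cs h J i).index * Module.finrank k (Io cs h T X ρ i)) := by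
    calc (WJ cs J).index * d ≤ 2 * (ES cs h J i).index * Module.finrank k (Io cs h T X ρ i) := Nat.mul_le_mul h8 h9
      _ = _ := by ring
  nlinarith [key, h10]

end dim

end Cfsg.Agent.H2.Ppd
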