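import Cfsg.Agent.H905.DCTypes
import Cfsg.Agent.Nodes.RGDTwE6

/-!
# Indices of parabolic subgroups and orbits, exceptional types (helper2)

* `chn A v0 L` : the vectors of `L` (newest first) are different and obtained from `v0` by firings;
* `exists_of_chn` : then they are the functionals `co cs h i w`;
* `index_ge` : `|L| ≤ |W : W_J|`, `i ∉ J`;
* `index_E6 : 24 ≤`, `index_E7 : 36 ≤`, `index_E8 : 60 ≤`, `index_F4 : 24 ≤`, `index_F4' : 96 ≤` (`1 ∉ J`);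
* `LF` : the orbit of type `0` of `F₄`, 24 vectors.
-/

set_option autoImplicit false
set_option linter.unusedSectionVars false
set_option linter.style.longLine false

namespace Cfsg.Agent.H2.Ppd

open CoxeterSystem Cfsg.Agent.ChevalleyStructure.CoxeterGeom Cfsg.Agent.Tits.Roots Cfsg.Agent.Tits.Core
  Cfsg.Agent.H905.DC

/-- equality test -/
def eqv {l : ℕ} (u v : Fin l → ℤ) : Bool := (List.finRange l).all fun k => u k == v k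

theorem eqv_iff {l : ℕ} {u v : Fin l → ℤ} : eqv u v = true ↔ u = v := by
  unfold eqv
  rw [List.all_eq_true]
  constructor
  · intro h
    funext k
    exact beq_iff_eq.1 (h k (List.mem_finRange k))
  · rintro rfl k _
    exact beq_self_eq_true _

/-- the test for a list of firings -/
def chn {l : ℕ} (A : Fin l → Fin l → ℤ) (v0 : Fin l → ℤ) : List (Fin l → ℤ) → Bool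
  | [] => true
  | v :: L => (eqv v v0 || L.any fun u => (List.finRange l).any fun j => eqv v (fire A u j)) &&
      (L.all fun u => !(eqv v u)) && chn A v0 L

section

variable {l : ℕ} {W : Type*} [Group W] {M : CoxeterMatrix (Fin l)} (cs : CoxeterSystem M W)
  {A : Fin l → Fin l → ℤ} (h : IsCartan M A)

theorem exists_of_chn {i : Fin l} {L : List (Fin l → ℤ)} (hL : chn A (Pi.single i 1) L = true) :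
    (∀ v ∈ L, ∃ w, co cs h i w = v) ∧ L.Nodup := by
  induction L with
  | nil => exact ⟨fun v hv => absurd hv List.not_mem_nil, List.nodup_nil⟩
  | cons v L ih =>
    unfold chn at hL
    rw [Bool.and_eq_true, Bool.and_eq_true, Bool.or_eq_true] at hL
    obtain ⟨⟨h1, h2⟩, h3⟩ := hL
    obtain ⟨h4, h5⟩ := ih h3
    refine ⟨fun u hu => ?_, ?_⟩
    · rcases List.mem_cons.1 hu with rfl | hu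
      · rcases h1 with h1 | h1
        · refine ⟨1, ?_⟩
          rw [co_one, eqv_iff.1 h1]
          rfl
        · obtain ⟨u', hu', h6⟩ := List.any_eq_true.1 h1
          obtain ⟨j, -, h7⟩ := List.any_eq_true.1 h6
          obtain ⟨w, hw⟩ := h4 u' hu'
          exact ⟨w * cs.simple j, by rw [co_mul_simple, hw, eqv_iff.1 h7]⟩
      · exact h4 u hu
    · rw [List.nodup_cons]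
      refine ⟨fun hv => ?_, h5⟩
      have h6 := List.all_eq_true.1 h2 v hv
      have h7 : eqv v v = true := eqv_iff.2 rfl
      rw [h7] at h6
      exact absurd h6 (by decide)

include h in
/-- **the index** -/
theorem index_ge [Finite W] {J : Set (Fin l)} {i : Fin l} (hi : i ∉ J) (L : List (Fin l → ℤ))
    (hL : chn A (Pi.single i 1) L = true) : L.length ≤ (WJ cs J).index := by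
  obtain ⟨h1, h2⟩ := exists_of_chn cs h hL
  choose w hw using fun k : Fin L.length => h1 (L.get k) (List.get_mem L k)
  have h3 := card_le_index cs h hi (ι := Fin L.length) w (by
    intro a b hab
    have hab' : L.get a = L.get b := by rw [← hw a, ← hw b]; exact hab
    exact List.nodup_iff_injective_get.1 h2 hab')
  rwa [Nat.card_eq_fintype_card, Fintype.card_fin] at h3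

end

theorem exists_notMem {I : Type*} {J : Set I} (hJ : J ≠ Set.univ) : ∃ i, i ∉ J := by
  by_contra hcon
  push Not at hcon
  exact hJ (Set.eq_univ_of_forall hcon)

theorem index_E6 {W : Type*} [Group W] [Finite W] (cs : CoxeterSystem CoxeterMatrix.E₆ W) {J : Set (Fin 6)} {i : Fin 6} (hi : i ∉ J) :
    24 ≤ (WJ cs J).index := by
  fin_cases i
  · exact index_ge cs isCartan_cE6 hi [![0, -1, -1, 1, 0, 0], ![0, 1, -1, 0, 0, 0], ![-1, -1, 1, 0, 0, 0], ![1, -1, 0, 0, 0, 0], ![-1, 1, 1, -1, 0, 0], ![1, 1, 0, -1, 0, 0], ![-1, 0, 0, 1, -1, 0], ![1, 0, -1, 1, -1, 0], ![-1, 0, 0, 0, 1, -1], ![0, 0, 1, 0, -1, 0], ![1, 0, -1, 0, 1, -1], ![-1, 0, 0, 0, 0, 1], ![0, 0, 1, -1, 1, -1], ![1, 0, -1, 0, 0, 1], ![0, -1, 0, 1, 0, -1], ![0, 0, 1, -1,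 0, 1], ![0, 1, 0, 0, 0, -1], ![0, -1, 0, 1, -1, 1], ![0, 1, 0, 0, -1, 1], ![0, -1, 0, 0, 1, 0], ![0, 1, 0, -1, 1, 0], ![0, 0, -1, 1, 0, 0], ![-1, 0, 1, 0, 0, 0], ![1, 0, 0, 0, 0, 0]] (by decide +kernel)
  · exact index_ge cs isCartan_cE6 hi [![-1, 1, 1, 0, -1, 0], ![0, 1, -1, 0, 1, -1], ![-1, -1, 1, 0, 1, -1], ![0, -1, -1, 1, 0, 1], ![1, 1, 0, 0, -1, 0], ![1, -1, 0, 0, 1, -1], ![-1, 1, 1, -1, 1, -1], ![0, 1, -1, 0, 0, 1], ![-1, -1, 1, 0, 0, 1], ![1, 1, 0, -1, 1, -1], ![1, -1, 0, 0, 0, 1], ![-1, 0, 0, 1, 0, -1], ![-1, 1, 1, -1, 0, 1], ![1, 0, -1, 1, 0, -1], ![1, 1, 0, -1, 0, 1], ![-1, 0, 0, 1, -1, 1], ![0, 0, 1, 0, 0, -1], ![1, 0, -1, 1, -1, 1], ![-1, 0, 0, 0, 1, 0], ![0, 0, 1, 0, -1, 1], ![1, 0, -1, 0, 1, 0], ![0, 0, 1, -1, 1, 0],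 ![0, -1, 0, 1, 0, 0], ![0, 1, 0, 0, 0, 0]] (by decide +kernel)
  · exact index_ge cs isCartan_cE6 hi [![0, 1, -1, 1, 0, -1], ![0, 2, 0, -1, 0, 1], ![-1, -1, 1, 1, 0, -1], ![-1, 0, 2, -1, 0, 1], ![0, -1, -1, 2, -1, 1], ![0, 0, 0, -1, 2, 0], ![1, -1, 0, 1, 0, -1], ![1, 0, 1, -1, 0, 1], ![-1, 1, 1, 0, 0, -1], ![0, 1, -1, 1, -1, 1], ![-1, -1, 1, 1, -1, 1], ![0, -1, -1, 1, 1, 0], ![1, 1, 0, 0, 0, -1], ![1, -1, 0, 1, -1, 1], ![-1, 1, 1, 0, -1, 1], ![0, 1, -1, 0, 1, 0], ![-1, -1, 1, 0, 1, 0], ![1, 1, 0, 0, -1, 1], ![1, -1, 0, 0, 1, 0], ![-1, 1, 1, -1, 1, 0], ![1, 1, 0, -1, 1, 0], ![-1, 0, 0, 1, 0, 0], ![1, 0, -1, 1, 0, 0], ![0, 0, 1, 0, 0, 0]] (by decide +kernel)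
  · exact index_ge cs isCartan_cE6 hi [![2, 0, -2, 1, 0, 1], ![1, -1, -1, 2, 0, -1], ![1, 1, 1, -2, 1, 1], ![1, 0, 0, 1, -2, 2], ![-1, -1, 0, 2, -1, 1], ![-1, 0, 1, -1, 2, 0], ![1, 1, -1, 1, 0, -1], ![1, 2, 0, -1, 0, 1], ![-1, 1, 0, 1, -1, 1], ![0, -1, 1, 1, 0, -1], ![0, 0, 2, -1, 0, 1], ![1, -1, -1, 2, -1, 1], ![1, 0, 0, -1, 2, 0], ![-1, -1, 0, 1, 1, 0], ![0, 1, 1, 0, 0, -1], ![1, 1, -1, 1, -1, 1], ![-1, 1, 0, 0, 1, 0], ![0, -1, 1, 1, -1, 1], ![1, -1, -1, 1, 1, 0], ![0, 1, 1, 0, -1, 1], ![1, 1, -1, 0, 1, 0], ![0, -1, 1, 0, 1, 0], ![0, 1, 1, -1, 1, 0], ![0, 0, 0, 1, 0, 0]] (by decide +kernel)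
  · exact index_ge cs isCartan_cE6 hi [![0, 0, 2, -1, 0, 0], ![1, -1, -1, 2, -1, 0], ![1, 0, 0, -1, 2, -1], ![1, 0, 0, 0, -1, 2], ![-1, -1, 0, 1, 1, -1], ![-1, 0, 1, -1, 1, 1], ![1, 1, -1, 1, -1, 0], ![-1, 1, 0, 0, 1, -1], ![0, -1, 1, 1, -1, 0], ![1, -1, -1, 1, 1, -1], ![1, 0, 0, -1, 1, 1], ![-1, -1, 0, 1, 0, 1], ![0, 1, 1, 0, -1, 0], ![1, 1, -1, 0, 1, -1], ![-1, 1, 0, 0, 0, 1], ![0, -1, 1, 0, 1, -1], ![1, -1, -1, 1, 0, 1], ![0, 1, 1, -1, 1, -1], ![1, 1, -1, 0, 0, 1], ![0, -1, 1, 0, 0, 1], ![0, 0, 0, 1, 0, -1], ![0, 1, 1, -1, 0, 1], ![0, 0, 0, 1, -1, 1], ![0, 0, 0, 0, 1, 0]] (by decide +kernel)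
  · exact index_ge cs isCartan_cE6 hi [![0, -1, 0, 1, -1, 0], ![0, 1, 0, 0, -1, 0], ![0, -1, 0, 0, 1, -1], ![0, 1, 0, -1, 1, -1], ![0, -1, 0, 0, 0, 1], ![0, 0, -1, 1, 0, -1], ![0, 1, 0, -1, 0, 1], ![-1, 0, 1, 0, 0, -1], ![0, 0, -1, 1, -1, 1], ![1, 0, 0, 0, 0, -1], ![-1, 0, 1, 0, -1, 1], ![0, 0, -1, 0, 1, 0], ![1, 0, 0, 0, -1, 1], ![-1, 0, 1, -1, 1, 0], ![1, 0, 0, -1, 1, 0], ![-1, -1, 0, 1, 0, 0], ![-1, 1, 0, 0, 0, 0], ![1, -1, -1, 1, 0, 0], ![1, 1, -1, 0, 0, 0], ![0, -1, 1, 0, 0, 0], ![0, 1, 1, -1, 0, 0], ![0, 0, 0, 1, -1, 0], ![0, 0, 0, 0, 1, -1], ![0, 0, 0, 0, 0, 1]] (by decide +kernel)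

theorem index_E7 {W : Type*} [Group W] [Finite W] (cs : CoxeterSystem CoxeterMatrix.E₇ W) {J : Set (Fin 7)} {i : Fin 7} (hi : i ∉ J) :
    36 ≤ (WJ cs J).index := by
  fin_cases i
  · exact index_ge cs isCartan_cE7 hi [![-1, 0, 0, 1, 0, -1, 0], ![-1, 1, 1, -1, 0, 1, -1], ![0, 1, -1, 0, 0, 0, 1], ![-1, -1, 1, 0, 0, 0, 1], ![1, 0, -1, 1, 0, -1, 0], ![1, 1, 0, -1, 0, 1, -1], ![1, -1, 0, 0, 0, 0, 1], ![-1, 0, 0, 1, -1, 1, -1], ![-1, 1, 1, -1, 0, 0, 1], ![0, 0, 1, 0, 0, -1, 0], ![1, 0, -1, 1, -1, 1, -1], ![1, 1, 0, -1, 0, 0, 1], ![-1, 0, 0, 0, 1, 0, -1], ![-1, 0, 0, 1, -1, 0, 1], ![0, 0, 1, 0, -1, 1, -1], ![1, 0, -1, 0, 1, 0, -1], ![1, 0, -1, 1, -1, 0, 1], ![-1, 0, 0, 0, 1, -1, 1], ![0, 0, 1, -1, 1, 0, -1], ![0, 0, 1, 0, -1, 0, 1], ![1,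 0, -1, 0, 1, -1, 1], ![-1, 0, 0, 0, 0, 1, 0], ![0, -1, 0, 1, 0, 0, -1], ![0, 0, 1, -1, 1, -1, 1], ![1, 0, -1, 0, 0, 1, 0], ![0, 1, 0, 0, 0, 0, -1], ![0, -1, 0, 1, 0, -1, 1], ![0, 0, 1, -1, 0, 1, 0], ![0, 1, 0, 0, 0, -1, 1], ![0, -1, 0, 1, -1, 1, 0], ![0, 1, 0, 0, -1, 1, 0], ![0, -1, 0, 0, 1, 0, 0], ![0, 1, 0, -1, 1, 0, 0], ![0, 0, -1, 1, 0, 0, 0], ![-1, 0, 1, 0, 0, 0, 0], ![1, 0, 0, 0, 0, 0, 0]] (by decide +kernel)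
  · exact index_ge cs isCartan_cE7 hi [![-1, -1, 1, 0, 1, 0, -1], ![-1, -1, 1, 1, -1, 0, 1], ![0, -1, -1, 1, 1, -1, 1], ![0, 0, 0, -1, 1, 1, 0], ![1, 1, 0, 0, -1, 1, -1], ![1, -1, 0, 0, 1, 0, -1], ![1, -1, 0, 1, -1, 0, 1], ![-1, 1, 1, -1, 1, 0, -1], ![-1, 1, 1, 0, -1, 0, 1], ![0, 1, -1, 0, 1, -1, 1], ![-1, -1, 1, 0, 1, -1, 1], ![0, -1, -1, 1, 0, 1, 0], ![1, 1, 0, -1, 1, 0, -1], ![1, 1, 0, 0, -1, 0, 1], ![1, -1, 0, 0, 1, -1, 1], ![-1, 0, 0, 1, 0, 0, -1], ![-1, 1, 1, -1, 1, -1, 1], ![0, 1, -1, 0, 0, 1, 0], ![-1, -1, 1, 0, 0, 1, 0], ![1, 0, -1, 1, 0, 0, -1], ![1, 1, 0, -1, 1, -1, 1], ![1, -1, 0, 0, 0, 1, 0], ![-1, 0, 0, 1, 0, -1, 1], ![-1, 1, 1, -1, 0, 1, 0], ![0, 0, 1, 0, 0, 0, -1], ![1, 0, -1, 1, 0, -1, 1], ![1, 1, 0, -1, 0, 1, 0],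 ![-1, 0, 0, 1, -1, 1, 0], ![0, 0, 1, 0, 0, -1, 1], ![1, 0, -1, 1, -1, 1, 0], ![-1, 0, 0, 0, 1, 0, 0], ![0, 0, 1, 0, -1, 1, 0], ![1, 0, -1, 0, 1, 0, 0], ![0, 0, 1, -1, 1, 0, 0], ![0, -1, 0, 1, 0, 0, 0], ![0, 1, 0, 0, 0, 0, 0]] (by decide +kernel)
  · exact index_ge cs isCartan_cE7 hi [![0, -2, 0, 1, 0, 1, 0], ![-1, -1, 1, 1, 0, 0, -1], ![-1, 0, 2, -1, 1, -1, 1], ![1, 0, -2, 1, 0, 1, 0], ![0, -1, -1, 2, 0, -1, 1], ![0, 1, 1, -2, 1, 1, 0], ![0, 0, 0, 1, -2, 2, 0], ![1, -1, 0, 1, 0, 0, -1], ![1, 0, 1, -1, 1, -1, 1], ![2, 0, -1, 0, 0, 1, 0], ![-1, 1, 1, 0, 0, 0, -1], ![0, 1, -1, 1, 0, -1, 1], ![0, 2, 0, -1, 0, 1, 0], ![-1, -1, 1, 1, 0, -1, 1], ![-1, 0, 2, -1, 0, 1, 0], ![0, -1, -1, 2, -1, 1, 0], ![0, 0, 0, -1, 2, 0, 0], ![1, 1, 0, 0, 0,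 0, -1], ![1, -1, 0, 1, 0, -1, 1], ![1, 0, 1, -1, 0, 1, 0], ![-1, 1, 1, 0, 0, -1, 1], ![0, 1, -1, 1, -1, 1, 0], ![-1, -1, 1, 1, -1, 1, 0], ![0, -1, -1, 1, 1, 0, 0], ![1, 1, 0, 0, 0, -1, 1], ![1, -1, 0, 1, -1, 1, 0], ![-1, 1, 1, 0, -1, 1, 0], ![0, 1, -1, 0, 1, 0, 0], ![-1, -1, 1, 0, 1, 0, 0], ![1, 1, 0, 0, -1, 1, 0], ![1, -1, 0, 0, 1, 0, 0], ![-1, 1, 1, -1, 1, 0, 0], ![1, 1, 0, -1, 1, 0, 0], ![-1, 0, 0, 1, 0, 0, 0], ![1, 0, -1, 1, 0, 0, 0], ![0, 0, 1, 0, 0, 0, 0]] (by decide +kernel)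
  · exact index_ge cs isCartan_cE7 hi [![-1, -1, 0, 2, 0, -1, 1], ![-1, 1, 2, -2, 1, 1, 0], ![-1, 0, 1, 1, -2, 2, 0], ![0, 0, -1, 0, 2, 0, 0], ![1, 1, -1, 1, 0, 0, -1], ![1, 2, 0, -1, 1, -1, 1], ![1, -2, 0, 1, 0, 1, 0], ![-1, 1, 0, 1, 0, -1, 1], ![-1, 2, 1, -1, 0, 1, 0], ![0, -1, 1, 1, 0, 0, -1], ![0, 0, 2, -1, 1, -1, 1], ![2, 0, -2, 1, 0, 1, 0], ![1, -1, -1, 2, 0, -1, 1], ![1, 1, 1, -2, 1, 1, 0], ![1, 0, 0, 1, -2, 2, 0], ![-1, -1, 0, 2, -1, 1, 0], ![-1, 0, 1, -1, 2, 0, 0], ![0, 1, 1, 0, 0, 0, -1], ![1, 1, -1, 1, 0, -1, 1], ![1, 2, 0, -1, 0, 1, 0], ![-1, 1, 0, 1, -1, 1, 0], ![0, -1, 1, 1, 0, -1, 1], ![0, 0, 2, -1, 0, 1, 0], ![1, -1, -1, 2, -1, 1, 0], ![1, 0, 0, -1, 2, 0, 0], ![-1, -1, 0, 1, 1, 0, 0], ![0, 1, 1, 0, 0, -1, 1], ![1,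 1, -1, 1, -1, 1, 0], ![-1, 1, 0, 0, 1, 0, 0], ![0, -1, 1, 1, -1, 1, 0], ![1, -1, -1, 1, 1, 0, 0], ![0, 1, 1, 0, -1, 1, 0], ![1, 1, -1, 0, 1, 0, 0], ![0, -1, 1, 0, 1, 0, 0], ![0, 1, 1, -1, 1, 0, 0], ![0, 0, 0, 1, 0, 0, 0]] (by decide +kernel)
  · exact index_ge cs isCartan_cE7 hi [![0, 1, 1, 0, 0, -1, 0], ![1, 1, -1, 1, -1, 1, -1], ![1, 2, 0, -1, 0, 0, 1], ![-1, 1, 0, 0, 1, 0, -1], ![-1, 1, 0, 1, -1, 0, 1], ![0, -1, 1, 1, -1, 1, -1], ![0, 0, 2, -1, 0, 0, 1], ![1, -1, -1, 1, 1, 0, -1], ![1, -1, -1, 2, -1, 0, 1], ![1, 0, 0, -1, 2, -1, 1], ![1, 0, 0, 0, -1, 2, 0], ![-1, -1, 0, 1, 1, -1, 1], ![-1, 0, 1, -1, 1, 1, 0], ![0, 1, 1, 0, -1, 1, -1], ![1, 1, -1, 0, 1, 0, -1], ![1, 1, -1, 1, -1, 0, 1], ![-1, 1, 0, 0, 1, -1, 1], ![0, -1, 1, 0, 1,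 0, -1], ![0, -1, 1, 1, -1, 0, 1], ![1, -1, -1, 1, 1, -1, 1], ![1, 0, 0, -1, 1, 1, 0], ![-1, -1, 0, 1, 0, 1, 0], ![0, 1, 1, -1, 1, 0, -1], ![0, 1, 1, 0, -1, 0, 1], ![1, 1, -1, 0, 1, -1, 1], ![-1, 1, 0, 0, 0, 1, 0], ![0, -1, 1, 0, 1, -1, 1], ![1, -1, -1, 1, 0, 1, 0], ![0, 0, 0, 1, 0, 0, -1], ![0, 1, 1, -1, 1, -1, 1], ![1, 1, -1, 0, 0, 1, 0], ![0, -1, 1, 0, 0, 1, 0], ![0, 0, 0, 1, 0, -1, 1], ![0, 1, 1, -1, 0, 1, 0], ![0, 0, 0, 1, -1, 1, 0], ![0, 0, 0, 0, 1, 0, 0]] (by decide +kernel)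
  · exact index_ge cs isCartan_cE7 hi [![1, 0, 0, 0, -1, 2, -1], ![1, 0, 0, 0, 0, -1, 2], ![-1, -1, 0, 1, 1, -1, 0], ![-1, 0, 1, -1, 1, 1, -1], ![-1, 0, 1, 0, -1, 1, 1], ![0, 0, -1, 0, 1, 0, 1], ![1, 1, -1, 1, -1, 0, 0], ![-1, 1, 0, 0, 1, -1, 0], ![0, -1, 1, 1, -1, 0, 0], ![1, -1, -1, 1, 1, -1, 0], ![1, 0, 0, -1, 1, 1, -1], ![1, 0, 0, 0, -1, 1, 1], ![-1, -1, 0, 1, 0, 1, -1], ![-1, 0, 1, -1, 1, 0, 1], ![0, 1, 1, 0, -1, 0, 0], ![1, 1, -1, 0, 1, -1, 0], ![-1, 1, 0, 0, 0, 1, -1], ![0, -1, 1, 0, 1, -1, 0], ![1, -1, -1, 1, 0, 1, -1], ![1, 0, 0, -1, 1, 0, 1], ![-1, -1, 0, 1, 0, 0, 1], ![0, 1, 1, -1, 1, -1, 0], ![1, 1, -1, 0, 0, 1, -1], ![-1, 1, 0, 0, 0, 0, 1], ![0, -1, 1, 0, 0, 1, -1], ![1, -1, -1, 1, 0, 0, 1], ![0, 0, 0, 1, 0, -1, 0], ![0,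 1, 1, -1, 0, 1, -1], ![1, 1, -1, 0, 0, 0, 1], ![0, -1, 1, 0, 0, 0, 1], ![0, 0, 0, 1, -1, 1, -1], ![0, 1, 1, -1, 0, 0, 1], ![0, 0, 0, 0, 1, 0, -1], ![0, 0, 0, 1, -1, 0, 1], ![0, 0, 0, 0, 1, -1, 1], ![0, 0, 0, 0, 0, 1, 0]] (by decide +kernel)
  · exact index_ge cs isCartan_cE7 hi [![0, 0, 1, -1, 0, 1, -1], ![1, 0, -1, 0, 0, 0, 1], ![0, 1, 0, 0, 0, -1, 0], ![0, -1, 0, 1, -1, 1, -1], ![0, 0, 1, -1, 0, 0, 1], ![0, 1, 0, 0, -1, 1, -1], ![0, -1, 0, 0, 1, 0, -1], ![0, -1, 0, 1, -1, 0, 1], ![0, 1, 0, -1, 1, 0, -1], ![0, 1, 0, 0, -1, 0, 1], ![0, -1, 0, 0, 1, -1, 1], ![0, 0, -1, 1, 0, 0, -1], ![0, 1, 0, -1, 1, -1, 1], ![0, -1, 0, 0, 0, 1, 0], ![-1, 0, 1, 0, 0, 0, -1], ![0, 0, -1, 1, 0, -1, 1], ![0, 1, 0, -1, 0, 1, 0], ![1, 0, 0, 0, 0, 0, -1],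 ![-1, 0, 1, 0, 0, -1, 1], ![0, 0, -1, 1, -1, 1, 0], ![1, 0, 0, 0, 0, -1, 1], ![-1, 0, 1, 0, -1, 1, 0], ![0, 0, -1, 0, 1, 0, 0], ![1, 0, 0, 0, -1, 1, 0], ![-1, 0, 1, -1, 1, 0, 0], ![1, 0, 0, -1, 1, 0, 0], ![-1, -1, 0, 1, 0, 0, 0], ![-1, 1, 0, 0, 0, 0, 0], ![1, -1, -1, 1, 0, 0, 0], ![1, 1, -1, 0, 0, 0, 0], ![0, -1, 1, 0, 0, 0, 0], ![0, 1, 1, -1, 0, 0, 0], ![0, 0, 0, 1, -1, 0, 0], ![0, 0, 0, 0, 1, -1, 0], ![0, 0, 0, 0, 0, 1, -1], ![0, 0, 0, 0, 0, 0, 1]] (by decide +kernel)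

theorem index_E8 {W : Type*} [Group W] [Finite W] (cs : CoxeterSystem CoxeterMatrix.E₈ W) {J : Set (Fin 8)} {i : Fin 8} (hi : i ∉ J) :
    60 ≤ (WJ cs J).index := by
  fin_cases i
  · exact index_ge cs isCartan_cE8 hi [![1, 1, 0, -1, 1, -1, 1, -1], ![1, 1, 0, 0, -1, 0, 0, 1], ![1, -1, 0, 0, 0, 1, 0, -1], ![1, -1, 0, 0, 1, -1, 0, 1], ![-1, 0, 0, 1, 0, -1, 1, -1], ![-1, 1, 1, -1, 0, 1, 0, -1], ![-1, 1, 1, -1, 1, -1, 0, 1], ![0, 1, -1, 0, 0, 1, -1, 1], ![-1, -1, 1, 0, 0, 1, -1, 1], ![0, -1, -1, 1, 0, 0, 1, 0], ![0, 0, 1, 0, 0, 0, -1, 0], ![1, 0, -1, 1, 0, -1, 1, -1], ![1, 1, 0, -1, 0, 1, 0, -1], ![1, 1, 0, -1, 1, -1, 0, 1], ![1, -1, 0, 0, 0, 1, -1, 1], ![-1, 0, 0, 1, -1, 1, 0, -1], ![-1, 0, 0, 1, 0, -1, 0, 1], ![-1, 1, 1, -1, 0, 1,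 -1, 1], ![0, 1, -1, 0, 0, 0, 1, 0], ![-1, -1, 1, 0, 0, 0, 1, 0], ![0, 0, 1, 0, 0, -1, 1, -1], ![1, 0, -1, 1, -1, 1, 0, -1], ![1, 0, -1, 1, 0, -1, 0, 1], ![1, 1, 0, -1, 0, 1, -1, 1], ![1, -1, 0, 0, 0, 0, 1, 0], ![-1, 0, 0, 0, 1, 0, 0, -1], ![-1, 0, 0, 1, -1, 1, -1, 1], ![-1, 1, 1, -1, 0, 0, 1, 0], ![0, 0, 1, 0, -1, 1, 0, -1], ![0, 0, 1, 0, 0, -1, 0, 1], ![1, 0, -1, 0, 1, 0, 0, -1], ![1, 0, -1, 1, -1, 1, -1, 1], ![1, 1, 0, -1, 0, 0, 1, 0], ![-1, 0, 0, 0, 1, 0, -1, 1], ![-1, 0, 0, 1, -1, 0, 1, 0], ![0, 0, 1, -1, 1, 0, 0, -1], ![0, 0, 1, 0, -1, 1, -1, 1], ![1, 0, -1, 0, 1, 0, -1, 1], ![1, 0, -1, 1, -1, 0, 1, 0], ![-1, 0, 0, 0, 1, -1, 1, 0], ![0, -1, 0, 1, 0, 0, 0, -1], ![0, 0, 1, -1, 1, 0, -1, 1], ![0, 0, 1, 0, -1, 0, 1, 0], ![1, 0, -1,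 0, 1, -1, 1, 0], ![-1, 0, 0, 0, 0, 1, 0, 0], ![0, 1, 0, 0, 0, 0, 0, -1], ![0, -1, 0, 1, 0, 0, -1, 1], ![0, 0, 1, -1, 1, -1, 1, 0], ![1, 0, -1, 0, 0, 1, 0, 0], ![0, 1, 0, 0, 0, 0, -1, 1], ![0, -1, 0, 1, 0, -1, 1, 0], ![0, 0, 1, -1, 0, 1, 0, 0], ![0, 1, 0, 0, 0, -1, 1, 0], ![0, -1, 0, 1, -1, 1, 0, 0], ![0, 1, 0, 0, -1, 1, 0, 0], ![0, -1, 0, 0, 1, 0, 0, 0], ![0, 1, 0, -1, 1, 0, 0, 0], ![0, 0, -1, 1, 0, 0, 0, 0], ![-1, 0, 1, 0, 0, 0, 0, 0], ![1, 0, 0, 0, 0, 0, 0, 0]] (by decide +kernel)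
  · exact index_ge cs isCartan_cE8 hi [![-1, 1, 1, 0, 0, -1, 0, 1], ![0, 1, -1, 0, 1, 0, 0, -1], ![0, 1, -1, 1, -1, 1, -1, 1], ![0, 2, 0, -1, 0, 0, 1, 0], ![-1, -1, 1, 0, 1, 0, 0, -1], ![-1, -1, 1, 1, -1, 1, -1, 1], ![-1, 0, 2, -1, 0, 0, 1, 0], ![0, -1, -1, 1, 1, 0, -1, 1], ![0, -1, -1, 2, -1, 0, 1, 0], ![0, 0, 0, -1, 2, -1, 1, 0], ![0, 0, 0, 0, -1, 2, 0, 0], ![1, 1, 0, 0, -1, 1, 0, -1], ![1, 1, 0, 0, 0, -1, 0, 1], ![1, -1, 0, 0, 1, 0, 0, -1], ![1, -1, 0, 1, -1, 1, -1, 1], ![1, 0, 1, -1, 0, 0, 1, 0], ![-1, 1, 1, -1, 1, 0, 0, -1], ![-1, 1, 1, 0, -1, 1, -1, 1], ![0, 1, -1, 0, 1, 0, -1, 1], ![0, 1, -1, 1, -1, 0, 1, 0], ![-1, -1, 1, 0, 1, 0, -1, 1], ![-1, -1, 1, 1, -1, 0, 1, 0], ![0, -1, -1, 1, 1, -1, 1, 0], ![0, 0, 0, -1, 1, 1, 0, 0],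 ![1, 1, 0, -1, 1, 0, 0, -1], ![1, 1, 0, 0, -1, 1, -1, 1], ![1, -1, 0, 0, 1, 0, -1, 1], ![1, -1, 0, 1, -1, 0, 1, 0], ![-1, 0, 0, 1, 0, 0, 0, -1], ![-1, 1, 1, -1, 1, 0, -1, 1], ![-1, 1, 1, 0, -1, 0, 1, 0], ![0, 1, -1, 0, 1, -1, 1, 0], ![-1, -1, 1, 0, 1, -1, 1, 0], ![0, -1, -1, 1, 0, 1, 0, 0], ![1, 0, -1, 1, 0, 0, 0, -1], ![1, 1, 0, -1, 1, 0, -1, 1], ![1, 1, 0, 0, -1, 0, 1, 0], ![1, -1, 0, 0, 1, -1, 1, 0], ![-1, 0, 0, 1, 0, 0, -1, 1], ![-1, 1, 1, -1, 1, -1, 1, 0], ![0, 1, -1, 0, 0, 1, 0, 0], ![-1, -1, 1, 0, 0, 1, 0, 0], ![0, 0, 1, 0, 0, 0, 0, -1], ![1, 0, -1, 1, 0, 0, -1, 1], ![1, 1, 0, -1, 1, -1, 1, 0], ![1, -1, 0, 0, 0, 1, 0, 0], ![-1, 0, 0, 1, 0, -1, 1, 0], ![-1, 1, 1, -1, 0, 1, 0, 0], ![0, 0, 1, 0, 0, 0, -1, 1], ![1, 0, -1, 1, 0,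 -1, 1, 0], ![1, 1, 0, -1, 0, 1, 0, 0], ![-1, 0, 0, 1, -1, 1, 0, 0], ![0, 0, 1, 0, 0, -1, 1, 0], ![1, 0, -1, 1, -1, 1, 0, 0], ![-1, 0, 0, 0, 1, 0, 0, 0], ![0, 0, 1, 0, -1, 1, 0, 0], ![1, 0, -1, 0, 1, 0, 0, 0], ![0, 0, 1, -1, 1, 0, 0, 0], ![0, -1, 0, 1, 0, 0, 0, 0], ![0, 1, 0, 0, 0, 0, 0, 0]] (by decide +kernel)
  · exact index_ge cs isCartan_cE8 hi [![0, 1, -1, 1, 0, 0, 0, -1], ![0, 2, 0, -1, 1, 0, -1, 1], ![0, 2, 0, 0, -1, 0, 1, 0], ![0, -2, 0, 1, 1, -1, 1, 0], ![-1, -1, 1, 1, 0, 0, 0, -1], ![-1, 0, 2, -1, 1, 0, -1, 1], ![-1, 0, 2, 0, -1, 0, 1, 0], ![1, 0, -2, 1, 1, -1, 1, 0], ![-1, 0, -1, 1, 0, 1, 0, 0], ![0, -1, -1, 2, 0, 0, -1, 1], ![0, 1, 1, -2, 2, -1, 1, 0], ![1, 1, -1, -1, 1, 1, 0, 0], ![0, -1, 1, -1, 1, 1, 0, 0], ![0, 0, 0,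 1, 0, -2, 2, 0], ![0, 1, 1, -1, -1, 2, 0, 0], ![1, -1, 0, 1, 0, 0, 0, -1], ![1, 0, 1, -1, 1, 0, -1, 1], ![1, 0, 1, 0, -1, 0, 1, 0], ![2, 0, -1, 0, 1, -1, 1, 0], ![-2, 0, 1, 0, 0, 1, 0, 0], ![-1, 1, 1, 0, 0, 0, 0, -1], ![0, 1, -1, 1, 0, 0, -1, 1], ![0, 2, 0, -1, 1, -1, 1, 0], ![0, -2, 0, 1, 0, 1, 0, 0], ![-1, -1, 1, 1, 0, 0, -1, 1], ![-1, 0, 2, -1, 1, -1, 1, 0], ![1, 0, -2, 1, 0, 1, 0, 0], ![0, -1, -1, 2, 0, -1, 1, 0], ![0, 1, 1, -2, 1, 1, 0, 0], ![0, 0, 0, 1, -2, 2, 0, 0], ![1, 1, 0, 0, 0, 0, 0, -1], ![1, -1, 0, 1, 0, 0, -1, 1], ![1, 0, 1, -1, 1, -1, 1, 0], ![2, 0, -1, 0, 0, 1, 0, 0], ![-1, 1, 1, 0, 0, 0, -1, 1], ![0, 1, -1, 1, 0, -1, 1, 0], ![0, 2, 0, -1, 0, 1, 0, 0], ![-1, -1, 1, 1, 0, -1, 1, 0], ![-1, 0, 2, -1, 0, 1, 0, 0], ![0,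 -1, -1, 2, -1, 1, 0, 0], ![0, 0, 0, -1, 2, 0, 0, 0], ![1, 1, 0, 0, 0, 0, -1, 1], ![1, -1, 0, 1, 0, -1, 1, 0], ![1, 0, 1, -1, 0, 1, 0, 0], ![-1, 1, 1, 0, 0, -1, 1, 0], ![0, 1, -1, 1, -1, 1, 0, 0], ![-1, -1, 1, 1, -1, 1, 0, 0], ![0, -1, -1, 1, 1, 0, 0, 0], ![1, 1, 0, 0, 0, -1, 1, 0], ![1, -1, 0, 1, -1, 1, 0, 0], ![-1, 1, 1, 0, -1, 1, 0, 0], ![0, 1, -1, 0, 1, 0, 0, 0], ![-1, -1, 1, 0, 1, 0, 0, 0], ![1, 1, 0, 0, -1, 1, 0, 0], ![1, -1, 0, 0, 1, 0, 0, 0], ![-1, 1, 1, -1, 1, 0, 0, 0], ![1, 1, 0, -1, 1, 0, 0, 0], ![-1, 0, 0, 1, 0, 0, 0, 0], ![1, 0, -1, 1, 0, 0, 0, 0], ![0, 0, 1, 0, 0, 0, 0, 0]] (by decide +kernel)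
  · exact index_ge cs isCartan_cE8 hi [![-1, -1, 2, -1, 1, 1, 0, 0], ![-1, 0, 1, 1, 0, -2, 2, 0], ![-1, 1, 2, -1, -1, 2, 0, 0], ![0, 0, -1, 2, -2, 2, 0, 0], ![1, 1, -1, 1, 0, 0, 0, -1], ![1, 2, 0, -1, 1, 0, -1, 1], ![1, 2, 0, 0, -1, 0, 1, 0], ![1, -2, 0, 1, 1, -1, 1, 0], ![-1, 1, 0, 1, 0, 0, -1, 1], ![-1, 2, 1, -1, 1, -1, 1, 0], ![0, 2, -1, 0, 0, 1, 0, 0], ![-1, -2, 1, 1, 0, 1, 0, 0], ![0, -1, 1, 1, 0, 0, 0, -1], ![0, 0, 2, -1, 1, 0, -1, 1], ![0, 0, 2, 0, -1, 0, 1, 0], ![2, 0, -2, 1, 1, -1, 1, 0], ![-2, 0, 0, 1, 0, 1, 0, 0], ![1, -1, -1, 2, 0, 0, -1, 1], ![1, 1, 1, -2, 2, -1, 1, 0], ![2, 1, -1, -1, 1, 1, 0, 0], ![1, -1, 1, -1, 1, 1, 0, 0], ![1, 0, 0, 1, 0, -2, 2, 0], ![1, 1, 1, -1, -1, 2, 0, 0], ![-1, -1, 0, 2, 0, -1, 1, 0], ![-1,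 1, 2, -2, 1, 1, 0, 0], ![-1, 0, 1, 1, -2, 2, 0, 0], ![0, 0, -1, 0, 2, 0, 0, 0], ![0, 1, 1, 0, 0, 0, 0, -1], ![1, 1, -1, 1, 0, 0, -1, 1], ![1, 2, 0, -1, 1, -1, 1, 0], ![1, -2, 0, 1, 0, 1, 0, 0], ![-1, 1, 0, 1, 0, -1, 1, 0], ![-1, 2, 1, -1, 0, 1, 0, 0], ![0, -1, 1, 1, 0, 0, -1, 1], ![0, 0, 2, -1, 1, -1, 1, 0], ![2, 0, -2, 1, 0, 1, 0, 0], ![1, -1, -1, 2, 0, -1, 1, 0], ![1, 1, 1, -2, 1, 1, 0, 0], ![1, 0, 0, 1, -2, 2, 0, 0], ![-1, -1, 0, 2, -1, 1, 0, 0], ![-1, 0, 1, -1, 2, 0, 0, 0], ![0, 1, 1, 0, 0, 0, -1, 1], ![1, 1, -1, 1, 0, -1, 1, 0], ![1, 2, 0, -1, 0, 1, 0, 0], ![-1, 1, 0, 1, -1, 1, 0, 0], ![0, -1, 1, 1, 0, -1, 1, 0], ![0, 0, 2, -1, 0, 1, 0, 0], ![1, -1, -1, 2, -1, 1, 0, 0], ![1, 0, 0, -1, 2, 0, 0, 0], ![-1, -1, 0, 1, 1, 0, 0, 0],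 ![0, 1, 1, 0, 0, -1, 1, 0], ![1, 1, -1, 1, -1, 1, 0, 0], ![-1, 1, 0, 0, 1, 0, 0, 0], ![0, -1, 1, 1, -1, 1, 0, 0], ![1, -1, -1, 1, 1, 0, 0, 0], ![0, 1, 1, 0, -1, 1, 0, 0], ![1, 1, -1, 0, 1, 0, 0, 0], ![0, -1, 1, 0, 1, 0, 0, 0], ![0, 1, 1, -1, 1, 0, 0, 0], ![0, 0, 0, 1, 0, 0, 0, 0]] (by decide +kernel)
  · exact index_ge cs isCartan_cE8 hi [![1, -2, 0, 1, 0, 0, 1, 0], ![-1, 1, 0, 0, 1, 0, 0, -1], ![-1, 1, 0, 1, -1, 1, -1, 1], ![-1, 2, 1, -1, 0, 0, 1, 0], ![0, -1, 1, 1, -1, 1, 0, -1], ![0, -1, 1, 1, 0, -1, 0, 1], ![0, 0, 2, -1, 0, 1, -1, 1], ![2, 0, -2, 1, 0, 0, 1, 0], ![1, -1, -1, 1, 1, 0, 0, -1], ![1, -1, -1, 2, -1, 1, -1, 1], ![1, 1, 1, -2, 1, 0, 1, 0], ![1, 0, 0, -1, 2, 0, -1, 1], ![1, 0, 0, 1, -2, 1, 1, 0], ![1, 0, 0, 0, 1, -2,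 2, 0], ![-1, -1, 0, 1, 1, 0, -1, 1], ![-1, -1, 0, 2, -1, 0, 1, 0], ![-1, 0, 1, -1, 2, -1, 1, 0], ![-1, 0, 1, 0, -1, 2, 0, 0], ![0, 0, -1, 0, 1, 1, 0, 0], ![0, 1, 1, 0, -1, 1, 0, -1], ![0, 1, 1, 0, 0, -1, 0, 1], ![1, 1, -1, 0, 1, 0, 0, -1], ![1, 1, -1, 1, -1, 1, -1, 1], ![1, 2, 0, -1, 0, 0, 1, 0], ![-1, 1, 0, 0, 1, 0, -1, 1], ![-1, 1, 0, 1, -1, 0, 1, 0], ![0, -1, 1, 0, 1, 0, 0, -1], ![0, -1, 1, 1, -1, 1, -1, 1], ![0, 0, 2, -1, 0, 0, 1, 0], ![1, -1, -1, 1, 1, 0, -1, 1], ![1, -1, -1, 2, -1, 0, 1, 0], ![1, 0, 0, -1, 2, -1, 1, 0], ![1, 0, 0, 0, -1, 2, 0, 0], ![-1, -1, 0, 1, 1, -1, 1, 0], ![-1, 0, 1, -1, 1, 1, 0, 0], ![0, 1, 1, -1, 1, 0, 0, -1], ![0, 1, 1, 0, -1, 1, -1, 1], ![1, 1, -1, 0, 1, 0, -1, 1], ![1, 1, -1, 1, -1, 0, 1, 0], ![-1,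 1, 0, 0, 1, -1, 1, 0], ![0, -1, 1, 0, 1, 0, -1, 1], ![0, -1, 1, 1, -1, 0, 1, 0], ![1, -1, -1, 1, 1, -1, 1, 0], ![1, 0, 0, -1, 1, 1, 0, 0], ![-1, -1, 0, 1, 0, 1, 0, 0], ![0, 0, 0, 1, 0, 0, 0, -1], ![0, 1, 1, -1, 1, 0, -1, 1], ![0, 1, 1, 0, -1, 0, 1, 0], ![1, 1, -1, 0, 1, -1, 1, 0], ![-1, 1, 0, 0, 0, 1, 0, 0], ![0, -1, 1, 0, 1, -1, 1, 0], ![1, -1, -1, 1, 0, 1, 0, 0], ![0, 0, 0, 1, 0, 0, -1, 1], ![0, 1, 1, -1, 1, -1, 1, 0], ![1, 1, -1, 0, 0, 1, 0, 0], ![0, -1, 1, 0, 0, 1, 0, 0], ![0, 0, 0, 1, 0, -1, 1, 0], ![0, 1, 1, -1, 0, 1, 0, 0], ![0, 0, 0, 1, -1, 1, 0, 0], ![0, 0, 0, 0, 1, 0, 0, 0]] (by decide +kernel)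
  · exact index_ge cs isCartan_cE8 hi [![-1, 1, 0, 0, 1, -1, 1, -1], ![-1, 1, 0, 1, -1, 0, 0, 1], ![0, -1, 1, 0, 1, 0, -1, 0], ![0, -1, 1, 1, -1, 0, 1, -1], ![0, 0, 2, -1, 0, 0, 0, 1], ![1, -1, -1, 1, 1, -1, 1, -1], ![1, -1, -1, 2, -1, 0, 0, 1], ![1, 0, 0, -1, 1, 1, 0, -1], ![1, 0, 0, -1, 2, -1, 0, 1], ![1, 0, 0, 0, -1, 2, -1, 1], ![1, 0, 0, 0, 0, -1, 2, 0], ![-1, -1, 0, 1, 0, 1, 0, -1], ![-1, -1, 0, 1, 1, -1, 0, 1], ![-1, 0, 1, -1, 1, 1, -1, 1], ![-1, 0, 1, 0, -1, 1, 1, 0], ![0, 0, -1, 0, 1, 0, 1, 0], ![0, 1, 1, -1, 1, 0, -1, 0], ![0, 1, 1, 0, -1, 0, 1, -1], ![1, 1, -1, 0, 1, -1, 1, -1], ![1, 1, -1, 1, -1, 0, 0, 1], ![-1, 1, 0, 0, 0, 1, 0, -1], ![-1, 1, 0, 0, 1, -1, 0, 1], ![0, -1, 1, 0, 1, -1, 1, -1], ![0, -1, 1, 1, -1, 0, 0, 1],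 ![1, -1, -1, 1, 0, 1, 0, -1], ![1, -1, -1, 1, 1, -1, 0, 1], ![1, 0, 0, -1, 1, 1, -1, 1], ![1, 0, 0, 0, -1, 1, 1, 0], ![-1, -1, 0, 1, 0, 1, -1, 1], ![-1, 0, 1, -1, 1, 0, 1, 0], ![0, 0, 0, 1, 0, 0, -1, 0], ![0, 1, 1, -1, 1, -1, 1, -1], ![0, 1, 1, 0, -1, 0, 0, 1], ![1, 1, -1, 0, 0, 1, 0, -1], ![1, 1, -1, 0, 1, -1, 0, 1], ![-1, 1, 0, 0, 0, 1, -1, 1], ![0, -1, 1, 0, 0, 1, 0, -1], ![0, -1, 1, 0, 1, -1, 0, 1], ![1, -1, -1, 1, 0, 1, -1, 1], ![1, 0, 0, -1, 1, 0, 1, 0], ![-1, -1, 0, 1, 0, 0, 1, 0], ![0, 0, 0, 1, 0, -1, 1, -1], ![0, 1, 1, -1, 0, 1, 0, -1], ![0, 1, 1, -1, 1, -1, 0, 1], ![1, 1, -1, 0, 0, 1, -1, 1], ![-1, 1, 0, 0, 0, 0, 1, 0], ![0, -1, 1, 0, 0, 1, -1, 1], ![1, -1, -1, 1, 0, 0, 1, 0], ![0, 0, 0, 1, -1, 1, 0, -1], ![0, 0, 0, 1, 0,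 -1, 0, 1], ![0, 1, 1, -1, 0, 1, -1, 1], ![1, 1, -1, 0, 0, 0, 1, 0], ![0, -1, 1, 0, 0, 0, 1, 0], ![0, 0, 0, 0, 1, 0, 0, -1], ![0, 0, 0, 1, -1, 1, -1, 1], ![0, 1, 1, -1, 0, 0, 1, 0], ![0, 0, 0, 0, 1, 0, -1, 1], ![0, 0, 0, 1, -1, 0, 1, 0], ![0, 0, 0, 0, 1, -1, 1, 0], ![0, 0, 0, 0, 0, 1, 0, 0]] (by decide +kernel)
  · exact index_ge cs isCartan_cE8 hi [![1, 2, 0, -1, 0, 0, 0, 0], ![-1, 1, 0, 1, -1, 0, 0, 0], ![0, 0, 2, -1, 0, 0, 0, 0], ![1, -1, -1, 2, -1, 0, 0, 0], ![1, 0, 0, -1, 2, -1, 0, 0], ![1, 0, 0, 0, -1, 2, -1, 0], ![1, 0, 0, 0, 0, -1, 2, -1], ![1, 0, 0, 0, 0, 0, -1, 2], ![-1, -1, 0, 1, 1, -1, 0, 0], ![-1, 0, 1, -1, 1, 1, -1, 0], ![-1, 0, 1, 0, -1, 1, 1, -1], ![-1, 0, 1, 0, 0, -1, 1, 1], ![0, 0, -1, 0, 1, 0, 1, -1], ![0, 0, -1,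 1, -1, 1, 0, 1], ![1, 1, -1, 1, -1, 0, 0, 0], ![-1, 1, 0, 0, 1, -1, 0, 0], ![0, -1, 1, 1, -1, 0, 0, 0], ![1, -1, -1, 1, 1, -1, 0, 0], ![1, 0, 0, -1, 1, 1, -1, 0], ![1, 0, 0, 0, -1, 1, 1, -1], ![1, 0, 0, 0, 0, -1, 1, 1], ![-1, -1, 0, 1, 0, 1, -1, 0], ![-1, 0, 1, -1, 1, 0, 1, -1], ![-1, 0, 1, 0, -1, 1, 0, 1], ![0, 0, -1, 0, 1, 0, 0, 1], ![0, 1, 1, 0, -1, 0, 0, 0], ![1, 1, -1, 0, 1, -1, 0, 0], ![-1, 1, 0, 0, 0, 1, -1, 0], ![0, -1, 1, 0, 1, -1, 0, 0], ![1, -1, -1, 1, 0, 1, -1, 0], ![1, 0, 0, -1, 1, 0, 1, -1], ![1, 0, 0, 0, -1, 1, 0, 1], ![-1, -1, 0, 1, 0, 0, 1, -1], ![-1, 0, 1, -1, 1, 0, 0, 1], ![0, 1, 1, -1, 1, -1, 0, 0], ![1, 1, -1, 0, 0, 1, -1, 0], ![-1, 1, 0, 0, 0, 0, 1, -1], ![0, -1, 1, 0, 0, 1, -1, 0], ![1, -1, -1, 1, 0, 0, 1, -1],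 ![1, 0, 0, -1, 1, 0, 0, 1], ![-1, -1, 0, 1, 0, 0, 0, 1], ![0, 0, 0, 1, 0, -1, 0, 0], ![0, 1, 1, -1, 0, 1, -1, 0], ![1, 1, -1, 0, 0, 0, 1, -1], ![-1, 1, 0, 0, 0, 0, 0, 1], ![0, -1, 1, 0, 0, 0, 1, -1], ![1, -1, -1, 1, 0, 0, 0, 1], ![0, 0, 0, 1, -1, 1, -1, 0], ![0, 1, 1, -1, 0, 0, 1, -1], ![1, 1, -1, 0, 0, 0, 0, 1], ![0, -1, 1, 0, 0, 0, 0, 1], ![0, 0, 0, 0, 1, 0, -1, 0], ![0, 0, 0, 1, -1, 0, 1, -1], ![0, 1, 1, -1, 0, 0, 0, 1], ![0, 0, 0, 0, 1, -1, 1, -1], ![0, 0, 0, 1, -1, 0, 0, 1], ![0, 0, 0, 0, 0, 1, 0, -1], ![0, 0, 0, 0, 1, -1, 0, 1], ![0, 0, 0, 0, 0, 1, -1, 1], ![0, 0, 0, 0, 0, 0, 1, 0]] (by decide +kernel)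
  · exact index_ge cs isCartan_cE8 hi [![-1, 0, 0, 0, 0, 1, 0, -1], ![-1, 0, 0, 0, 1, -1, 0, 1], ![0, -1, 0, 1, 0, 0, -1, 0], ![0, 0, 1, -1, 1, -1, 1, -1], ![0, 0, 1, 0, -1, 0, 0, 1], ![1, 0, -1, 0, 0, 1, 0, -1], ![1, 0, -1, 0, 1, -1, 0, 1], ![-1, 0, 0, 0, 0, 1, -1, 1], ![0, 1, 0, 0, 0, 0, -1, 0], ![0, -1, 0, 1, 0, -1, 1, -1], ![0, 0, 1, -1, 0, 1, 0, -1], ![0, 0, 1, -1, 1, -1, 0, 1], ![1, 0, -1, 0, 0, 1, -1, 1], ![-1, 0, 0, 0, 0, 0, 1, 0], ![0, 1, 0, 0, 0, -1, 1, -1], ![0, -1, 0, 1, -1, 1, 0, -1], ![0, -1, 0, 1, 0, -1, 0, 1], ![0, 0, 1, -1, 0, 1, -1, 1], ![1, 0, -1, 0, 0, 0, 1, 0], ![0, 1, 0, 0, -1, 1, 0, -1], ![0, 1, 0, 0, 0, -1, 0, 1], ![0, -1, 0, 0, 1, 0, 0, -1], ![0, -1, 0, 1, -1, 1, -1, 1], ![0, 0, 1, -1, 0, 0, 1, 0], ![0, 1,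 0, -1, 1, 0, 0, -1], ![0, 1, 0, 0, -1, 1, -1, 1], ![0, -1, 0, 0, 1, 0, -1, 1], ![0, -1, 0, 1, -1, 0, 1, 0], ![0, 0, -1, 1, 0, 0, 0, -1], ![0, 1, 0, -1, 1, 0, -1, 1], ![0, 1, 0, 0, -1, 0, 1, 0], ![0, -1, 0, 0, 1, -1, 1, 0], ![-1, 0, 1, 0, 0, 0, 0, -1], ![0, 0, -1, 1, 0, 0, -1, 1], ![0, 1, 0, -1, 1, -1, 1, 0], ![0, -1, 0, 0, 0, 1, 0, 0], ![1, 0, 0, 0, 0, 0, 0, -1], ![-1, 0, 1, 0, 0, 0, -1, 1], ![0, 0, -1, 1, 0, -1, 1, 0], ![0, 1, 0, -1, 0, 1, 0, 0], ![1, 0, 0, 0, 0, 0, -1, 1], ![-1, 0, 1, 0, 0, -1, 1, 0], ![0, 0, -1, 1, -1, 1, 0, 0], ![1, 0, 0, 0, 0, -1, 1, 0], ![-1, 0, 1, 0, -1, 1, 0, 0], ![0, 0, -1, 0, 1, 0, 0, 0], ![1, 0, 0, 0, -1, 1, 0, 0], ![-1, 0, 1, -1, 1, 0, 0, 0], ![1, 0, 0, -1, 1, 0, 0, 0], ![-1, -1, 0, 1, 0, 0, 0, 0], ![-1,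 1, 0, 0, 0, 0, 0, 0], ![1, -1, -1, 1, 0, 0, 0, 0], ![1, 1, -1, 0, 0, 0, 0, 0], ![0, -1, 1, 0, 0, 0, 0, 0], ![0, 1, 1, -1, 0, 0, 0, 0], ![0, 0, 0, 1, -1, 0, 0, 0], ![0, 0, 0, 0, 1, -1, 0, 0], ![0, 0, 0, 0, 0, 1, -1, 0], ![0, 0, 0, 0, 0, 0, 1, -1], ![0, 0, 0, 0, 0, 0, 0, 1]] (by decide +kernel)

theorem index_F4 {W : Type*} [Group W] [Finite W] (cs : CoxeterSystem CoxeterMatrix.F₄ W) {J : Set (Fin 4)} {i : Fin 4} (hi : i ∉ J) :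
    24 ≤ (WJ cs J).index := by
  fin_cases i
  · exact index_ge cs Nodes.RGDTwE6.isCartan hi [![-1, 0, 0, 0], ![1, -1, 0, 0], ![0, 1, -1, 0], ![0, -1, 1, -1], ![-1, 1, 0, -1], ![0, -1, 0, 1], ![1, 0, 0, -1], ![-1, 1, -1, 1], ![1, 0, -1, 1], ![-1, -1, 1, 0], ![-2, 1, 0, 0], ![1, -2, 1, 0], ![2, -1, 0, 0], ![-1, 2, -1, 0], ![1, 1, -1, 0], ![-1, 0, 1, -1], ![1, -1, 1, -1], ![-1, 0, 0, 1], ![0, 1, 0, -1], ![1, -1, 0, 1], ![0, 1, -1, 1], ![0, -1, 1, 0], ![-1, 1, 0, 0], ![1, 0, 0, 0]] (by decide +kernel)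
  · exact index_ge cs Nodes.RGDTwE6.isCartan hi [![-1, 1, 1, -2], ![0, -1, 0, 2], ![3, -1, 0, 0], ![-2, 3, -1, 0], ![1, 2, -2, 1], ![1, 0, 1, -2], ![-1, -1, 2, -1], ![-1, 1, -1, 2], ![2, 1, -1, 0], ![-2, 1, 1, -1], ![1, -2, 2, -1], ![1, 0, -1, 2], ![-1, -1, 1, 1], ![2, -1, 1, -1], ![-2, 1, 0, 1], ![-1, 2, 0, -1], ![1, -2, 1, 1], ![1, 1, 0, -1], ![2, -1, 0, 1], ![-1, 2, -1, 1], ![1, 1, -1, 1], ![-1, 0, 1, 0], ![1, -1, 1, 0], ![0, 1, 0, 0]] (by decide +kernel)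
  · exact index_ge cs Nodes.RGDTwE6.isCartan hi [![0, 4, -3, 1], ![0, 0, 2, -3], ![-4, 2, 0, 1], ![4, -2, 1, -1], ![2, -4, 2, 1], ![-2, 4, -1, -1], ![0, -2, 3, -2], ![0, 0, -1, 3], ![4, -2, 0, 1], ![2, 2, -1, -1], ![-2, 4, -2, 1], ![-2, 2, 1, -2], ![0, -2, 1, 2], ![2, 2, -2, 1], ![2, 0, 1, -2], ![-2, 0, 2, -1], ![-2, 2, -1, 2], ![2, -2, 2, -1], ![2, 0, -1, 2], ![-2, 0, 1, 1], ![0, 2, 0, -1], ![2, -2, 1, 1], ![0, 2, -1, 1], ![0, 0, 1, 0]] (by decide +kernel)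
  · exact index_ge cs Nodes.RGDTwE6.isCartan hi [![0, 0, 0, -1], ![0, 0, -1, 1], ![0, -2, 1, 0], ![-2, 2, -1, 0], ![2, 0, -1, 0], ![-2, 0, 1, -1], ![-2, 0, 0, 1], ![2, -2, 1, -1], ![2, -2, 0, 1], ![0, 2, -1, -1], ![0, 2, -2, 1], ![0, 0, 1, -2], ![0, -2, 2, -1], ![0, 0, -1, 2], ![-2, 2, 0, -1], ![0, -2, 1, 1], ![2, 0, 0, -1], ![-2, 2, -1, 1], ![2, 0, -1, 1], ![-2, 0, 1, 0], ![2, -2, 1, 0], ![0, 2, -1, 0], ![0, 0, 1, -1], ![0, 0, 0, 1]] (by decide +kernel)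

theorem index_F4' {W : Type*} [Group W] [Finite W] (cs : CoxeterSystem CoxeterMatrix.F₄ W) {J : Set (Fin 4)} (hi : (1 : Fin 4) ∉ J) :
    96 ≤ (WJ cs J).index :=
  index_ge cs Nodes.RGDTwE6.isCartan hi [![0, -1, 0, 0], ![-1, 1, -1, 0], ![1, 0, -1, 0], ![-1, -1, 1, -1], ![-2, 1, 0, -1], ![-1, -1, 0, 1], ![1, -2, 1, -1], ![-2, 1, -1, 1], ![2, -1, 0, -1], ![1, -2, 0, 1], ![-1, 2, -1, -1], ![-2, -1, 1, 0], ![2, -1, -1, 1], ![1, 1, -1, -1], ![-1, 2, -2, 1], ![-1, 0, 1, -2], ![-3, 1, 0, 0], ![2, -3, 1, 0], ![1, 1, -2, 1], ![1, -1, 1, -2], ![-1, -2, 2, -1], ![-1, 0, -1, 2], ![3, -2, 0, 0], ![0, 1, 0, -2], ![-1, 3, -2, 0], ![1, -3, 2, -1], ![1, -1, -1, 2], ![-3, 2, 0, -1], ![-1, -2, 1, 1], ![1, 2, -2, 0], ![0, 1, -2, 2], ![-1, -1, 2, -2],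 ![-2, 3, -1, -1], ![1, -3, 1, 1], ![3, -1, 0, -1], ![-3, 2, -1, 1], ![1, -2, 2, -2], ![0, -3, 2, 0], ![-2, 1, 1, -2], ![-1, -1, 0, 2], ![2, 1, -1, -1], ![-2, 3, -2, 1], ![3, -1, -1, 1], ![-3, 0, 1, 0], ![-1, 2, 0, -2], ![1, -2, 0, 2], ![-3, 3, -1, 0], ![2, -1, 1, -2], ![-2, 1, -1, 2], ![2, 1, -2, 1], ![-2, -1, 2, -1], ![3, -3, 1, 0], ![1, 1, 0, -2], ![-1, 2, -2, 2], ![3, 0, -1, 0], ![-3, 1, 1, -1], ![2, -1, -1, 2], ![-2, -1, 1, 1], ![2, -3, 2, -1], ![0, 3, -2, 0], ![1, 1, -2, 2], ![-1, -2, 2, 0], ![-3, 1, 0, 1], ![3, -2, 1, -1], ![2, -3, 1, 1], ![-1, 3, -1, -1], ![0, -1, 2, -2], ![-3, 2, 0, 0], ![1, -3, 2, 0], ![3, -2, 0, 1], ![1, 2, -1, -1], ![-1, 3, -2, 1], ![-1, 1, 1, -2], ![0, -1, 0, 2], ![3, -1, 0, 0], ![-2, 3, -1, 0], ![1, 2,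 -2, 1], ![1, 0, 1, -2], ![-1, -1, 2, -1], ![-1, 1, -1, 2], ![2, 1, -1, 0], ![-2, 1, 1, -1], ![1, -2, 2, -1], ![1, 0, -1, 2], ![-1, -1, 1, 1], ![2, -1, 1, -1], ![-2, 1, 0, 1], ![-1, 2, 0, -1], ![1, -2, 1, 1], ![1, 1, 0, -1], ![2, -1, 0, 1], ![-1, 2, -1, 1], ![1, 1, -1, 1], ![-1, 0, 1, 0], ![1, -1, 1, 0], ![0, 1, 0, 0]] (by decide +kernel)

/-- the orbit of type `0` -/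
def LF : List (Fin 4 → ℤ) := [![-1, 0, 0, 0], ![1, -1, 0, 0], ![0, 1, -1, 0], ![0, -1, 1, -1], ![-1, 1, 0, -1], ![0, -1, 0, 1], ![1, 0, 0, -1], ![-1, 1, -1, 1], ![1, 0, -1, 1], ![-1, -1, 1, 0], ![-2, 1, 0, 0], ![1, -2, 1, 0], ![2, -1, 0, 0], ![-1, 2, -1, 0], ![1, 1, -1, 0], ![-1, 0, 1, -1], ![1, -1, 1, -1], ![-1, 0, 0, 1], ![0, 1, 0, -1], ![1, -1, 0, 1], ![0, 1, -1, 1], ![0, -1, 1, 0], ![-1, 1, 0, 0], ![1, 0, 0, 0]]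

theorem chn_LF : chn Nodes.RGDTwE6.A (Pi.single 0 1) LF = true := by decide +kernel

theorem LF_pos : (LF.filter fun v => decide (0 < v 3)).length = 6 := by decide +kernel

theorem LF_zero : (LF.filter fun v => decide (v 3 = 0)).length = 12 := by decide +kernel

end Cfsg.Agent.H2.Ppd
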