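import Cfsg.Agent.H2.Ppd.Num
import Cfsg.Agent.H2.Ppd.Weyl
import Cfsg.Agent.H905.MdD
import Cfsg.Agent.ChevalleyStructure.SL2Hom

/-!
# The count of the weights at one node, one node outside `J` (helper2)
-/

set_option autoImplicit false
set_option linter.unusedSectionVars false
set_option linter.style.haveILetI false

namespace Cfsg.Agent.H2.Ppd

open Matrix CoxeterSystem Cfsg.Agent.ChevalleyStructure.CoxeterGeom Cfsg.Agent.Tits.Roots Cfsg.Agent.Tits.Core
  Cfsg.Agent.Tits.Exchange Cfsg.Agent.Nodes.Reps Cfsg.Agent.Nodes.BNOf Cfsg.Agent.Nodes.StabComb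
  Cfsg.Agent.Nodes.Bruhat Cfsg.Agent.Nodes.OppDec Cfsg.Agent.Nodes.LeviDec Cfsg.Agent.KFacts.RgdOpp
  Cfsg.Agent.Omega.CR Cfsg.Agent.Omega.FOne.Lift.Sd Cfsg.Agent.H905.Md
open Cfsg.Agent.H875.Fn Cfsg.Agent.H392.TD Cfsg.Agent.H905.DC
open Cfsg.Agent.H911.SLTwo (U Lo hh ww)
open scoped MatrixGroups

variable {I W Y : Type*} [Fintype I] [DecidableEq I] [Group W] [Group Y] {M : CoxeterMatrix I}
  {cs : CoxeterSystem M W} {A : I → I → ℤ} {h : IsCartan M A} {p : ℕ} {T : Subgroup Y} {n : I → Y}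
  {X : (I → ℤ) → Subgroup Y}

variable {E : Type*} [Field E] [Fintype E] {k V : Type*} [Field k] (j : E →+* k) [AddCommGroup V] [Module k V]

theorem closure_U_Lo {E : Type*} [Field E] {S : Subgroup SL(2, E)} (hU : ∀ t, U t ∈ S) (hLo : ∀ t, Lo t ∈ S)
    (g : SL(2, E)) : g ∈ S := by
  have h1 := Cfsg.Agent.ChevalleyStructure.SL2Hom.mem_closure_SL2 g
  refine (Subgroup.closure_le S).2 ?_ h1
  rintro _ (⟨t, rfl⟩ | ⟨t, rfl⟩)
  · exact hU t
  · exact hLo t

theorem co_ne {cs : CoxeterSystem M W} {A : I → I → ℤ} {h : IsCartan M A} {J : Set I} {i₀ : I} (hi : i₀ ∉ J) {w w' : W}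
    (hne : co cs h i₀ w ≠ co cs h i₀ w') : w * w'⁻¹ ∉ WJ cs J := by
  intro hmem
  apply hne
  have h1 := co_mul_left cs h hi hmem w'
  rwa [inv_mul_cancel_right] at h1

variable (R : RGD cs h p T n X) [Finite Y] [Finite W] [Fact p.Prime] [CharP k p]
  {ρ : Y →* Module.End k V} [FiniteDimensional k V] [Nontrivial V]
  (hirr : ∀ L : Submodule k V, Ivt ρ (GG cs h T X) L → L = ⊥ ∨ L = ⊤)
include R hirr

/-- **The count at one node.** -/
theorem levi_count {i₀ : I} (hi₀ : i₀ ∉ Jx cs h X ρ) (hJ : ∀ i, i ∉ Jx cs h X ρ → i = i₀) {i : I}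
    (θ : SpecialLinearGroup (Fin 2) E →* Y) (hU : ∀ t, θ (U t) ∈ X (sr i))
    (hLo : ∀ t, θ (Lo t) ∈ X (-sr i)) (hww : Rp cs R.nsys (cs.simple i) (θ ww)) {c : V} (hc : c ∈ D cs h X ρ)
    (hc0 : c ≠ 0) (La Lb : List (I → ℤ)) (hLa : ∀ v ∈ La, 0 < v i) (hLb : ∀ v ∈ Lb, v i = 0) (hnda : La.Nodup)
    (hndb : Lb.Nodup) (hexa : ∀ v ∈ La, ∃ w, co cs h i₀ w = v) (hexb : ∀ v ∈ Lb, ∃ w, co cs h i₀ w = v) (m : ℕ)
    (hwt : ∀ (w : W) (g : Y), Rp cs R.nsys w g → ∃ r : ℕ, r ≠ 0 ∧ r ≤ Fintype.card E - 1 ∧ m ≤ (SS p r).card ∧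
      ∀ s : Eˣ, ρ (g⁻¹ * θ (hh s) * g) c = (j (s : E) ^ r) • c) :
    La.length * m + Lb.length ≤ Module.finrank k V := by
  classical
  obtain ⟨φ₀, hφ₀, hne⟩ := exists_pair_D R hirr hc hc0
  have hUN : ∀ u ∈ UN cs h X, ∀ x, φ₀ (ρ u x) = φ₀ x := fun u hu x => dual_fx_pair R hφ₀ hu x
  have key : ∀ (a b : Y) (x : V), ρ (a * b) x = ρ a (ρ b x) := rho_mul ρ
  choose wa hwa using fun a : Fin La.length => hexa (La.get a) (List.get_mem La a)
  choose wb hwb using fun b : Fin Lb.length => hexb (Lb.get b) (List.get_mem Lb b)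
  have hLa' : ∀ a, 0 < co cs h i₀ (wa a) i := fun a => by rw [hwa]; exact hLa _ (List.get_mem La a)
  have hLb' : ∀ b, co cs h i₀ (wb b) i = 0 := fun b => by rw [hwb]; exact hLb _ (List.get_mem Lb b)
  have hinja : ∀ a a', a ≠ a' → co cs h i₀ (wa a) ≠ co cs h i₀ (wa a') := by
    intro a a' haa e
    rw [hwa, hwa] at e
    exact haa (List.nodup_iff_injective_get.1 hnda e)
  have hinjb : ∀ a a', a ≠ a' → co cs h i₀ (wb a) ≠ co cs h i₀ (wb a') := by
    intro a a' haa e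
    rw [hwb, hwb] at e
    exact haa (List.nodup_iff_injective_get.1 hndb e)
  choose ga hga using fun a => exists_rp cs R.nsys (wa a)⁻¹
  choose gb hgb using fun b => exists_rp cs R.nsys (wb b)⁻¹
  have hpos : ∀ a, 0 ≤ rep cs h ((wa a)⁻¹)⁻¹ (sr i) := by
    intro a
    rw [inv_inv]
    rcases ((isRoot_sr cs h i).act (wa a)).pos_or_neg with h1 | h1
    · exact h1
    · exfalso
      have h2 := h1 i₀
      have h3 := hLa' a
      unfold co at h3
      have h4 : rep cs h (wa a) (sr i) i₀ ≤ 0 := h2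
      omega
  have hroot : ∀ b, rep cs h ((wb b)⁻¹)⁻¹ (sr i) ∈ RootsJ cs h (Jx cs h X ρ) := by
    intro b
    refine ⟨(isRoot_sr cs h i).act _, fun k hk => ?_⟩
    rw [hJ k hk, inv_inv]
    exact hLb' b
  choose r hr0 hr hrm hχ using fun a => hwt _ _ (hga a)
  have hsum : La.length * m ≤ ∑ a, (SS p (r a)).card := by
    calc La.length * m = ∑ _a : Fin La.length, m := by rw [Finset.sum_const, Finset.card_univ, Fintype.card_fin, smul_eq_mul]
      _ ≤ _ := Finset.sum_le_sum fun a _ => hrm a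
  have hfire : ∀ a a', (((wa a)⁻¹)⁻¹) * (cs.simple i * (wa a')⁻¹) ∉ WJ cs (Jx cs h X ρ) := by
    intro a a'
    rw [inv_inv, ← mul_assoc]
    refine co_ne (h := h) hi₀ (fun e => ?_)
    have h1 := congrFun e i
    rw [co_mul_simple] at h1
    have h2 : co cs h i₀ (wa a) i - A i i * co cs h i₀ (wa a) i = co cs h i₀ (wa a') i := h1
    rw [h.diag] at h2
    have h3 := hLa' a
    have h4 := hLa' a'
    omega
  have key2 := sum_le_fix (Q := ρ.comp θ) (j := j) p (fun a => ρ (ga a) c) (fun a => dualRep ρ (ga a) φ₀) r hr0 hr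
    (by
      intro a t x
      change φ₀ (ρ (ga a)⁻¹ (ρ (θ (Lo t)) x)) = φ₀ (ρ (ga a)⁻¹ x)
      have h3 := R.conj_mem' (hga a) (isRoot_sr cs h i).neg (hLo t)
      have h4 : rep cs h ((wa a)⁻¹)⁻¹ (-sr i) ≤ 0 := by
        rw [map_neg]
        exact neg_nonpos.2 (hpos a)
      have h5 := X_le_UN ((isRoot_sr cs h i).neg.act ((wa a)⁻¹)⁻¹) h4 h3
      rw [← key, ← hUN _ h5 (ρ (ga a)⁻¹ x), ← key]
      congr 2
      group)
    (by
      intro a t
      change ρ (θ (U t)) (ρ (ga a) c) = ρ (ga a) c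
      have h3 := R.conj_mem' (hga a) (isRoot_sr cs h i) (hU t)
      have h5 : (ga a)⁻¹ * θ (U t) * ga a ∈ RGD.Sup X (RGD.Pos cs h) :=
        RGD.le_Sup (S := RGD.Pos cs h) ⟨(isRoot_sr cs h i).act ((wa a)⁻¹)⁻¹, hpos a⟩ h3
      have h6 : ρ (ga a) (ρ ((ga a)⁻¹ * θ (U t) * ga a) c) = ρ (ga a) c := by rw [hc _ h5]
      rw [← key] at h6 ⊢
      rw [← h6]
      congr 2
      group)
    (by
      intro a s
      change ρ (θ (hh s)) (ρ (ga a) c) = _
      have h3 := congrArg (ρ (ga a)) (hχ a s)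
      rw [← key, map_smul] at h3
      rw [← h3, ← key]
      congr 2
      group)
    (by
      intro a
      change φ₀ (ρ (ga a)⁻¹ (ρ (ga a) c)) ≠ 0
      rw [rho_inv_rho]
      exact hne)
    (by
      intro a b hab
      change φ₀ (ρ (ga a)⁻¹ (ρ (ga b) c)) = 0
      by_contra hcon
      rw [← key] at hcon
      have h6 := mem_WJ_of_pair R hirr hφ₀ ((hga a).inv.mul (hga b)) hc hcon
      rw [inv_inv] at h6
      exact co_ne (h := h) hi₀ (hinja a b hab) h6)
    (by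
      intro a b
      change φ₀ (ρ (ga a)⁻¹ (ρ (θ ww) (ρ (ga b) c))) = 0
      by_contra hcon
      rw [← key, ← key, mul_assoc] at hcon
      exact hfire a b (mem_WJ_of_pair R hirr hφ₀ ((hga a).inv.mul (hww.mul (hga b))) hc hcon))
    (fun b => ρ (gb b) c) (fun b => dualRep ρ (gb b) φ₀)
    (by
      intro b
      change φ₀ (ρ (gb b)⁻¹ (ρ (gb b) c)) ≠ 0
      rw [rho_inv_rho]
      exact hne)
    (by
      intro a b hab
      change φ₀ (ρ (gb a)⁻¹ (ρ (gb b) c)) = 0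
      by_contra hcon
      rw [← key] at hcon
      have h6 := mem_WJ_of_pair R hirr hφ₀ ((hgb a).inv.mul (hgb b)) hc hcon
      rw [inv_inv] at h6
      exact co_ne (h := h) hi₀ (hinjb a b hab) h6)
    (by
      intro b g
      change ρ (θ g) (ρ (gb b) c) = ρ (gb b) c
      let K : Subgroup SL(2, E) :=
        { carrier := {g | ρ (θ g) (ρ (gb b) c) = ρ (gb b) c}
          one_mem' := by
            change ρ (θ 1) (ρ (gb b) c) = ρ (gb b) c
            rw [map_one, rho_one]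
          mul_mem' := fun {x y} hx hy => by
            change ρ (θ (x * y)) (ρ (gb b) c) = ρ (gb b) c
            rw [map_mul, rho_mul, show ρ (θ y) (ρ (gb b) c) = ρ (gb b) c from hy]
            exact hx
          inv_mem' := fun {x} hx => by
            change ρ (θ x⁻¹) (ρ (gb b) c) = ρ (gb b) c
            conv_lhs => rw [← show ρ (θ x) (ρ (gb b) c) = ρ (gb b) c from hx]
            rw [map_inv]
            exact rho_inv_rho ρ _ _ }
      have hfix : ∀ y : Y, (gb b)⁻¹ * y * gb b ∈ X (rep cs h ((wb b)⁻¹)⁻¹ (sr i)) ∨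
          (gb b)⁻¹ * y * gb b ∈ X (rep cs h ((wb b)⁻¹)⁻¹ (-sr i)) → ρ y (ρ (gb b) c) = ρ (gb b) c := by
        intro y hy
        have h6 : ρ ((gb b)⁻¹ * y * gb b) c = c := by
          rcases hy with hy | hy
          · exact X_fix_J R hirr (hroot b) hy hc
          · rw [map_neg] at hy
            exact X_fix_J R hirr (RootsJ.neg (hroot b)) hy hc
        have h7 := congrArg (ρ (gb b)) h6
        rw [← key] at h7
        have e : y * gb b = gb b * ((gb b)⁻¹ * y * gb b) := by group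
        rw [← key, e]
        exact h7
      exact closure_U_Lo (S := K) (fun t => hfix _ (Or.inl (R.conj_mem' (hgb b) (isRoot_sr cs h i) (hU t))))
        (fun t => hfix _ (Or.inr (R.conj_mem' (hgb b) (isRoot_sr cs h i).neg (hLo t)))) g)
    (by
      intro a b
      change φ₀ (ρ (ga a)⁻¹ (ρ (gb b) c)) = 0
      by_contra hcon
      rw [← key] at hcon
      have h6 := mem_WJ_of_pair R hirr hφ₀ ((hga a).inv.mul (hgb b)) hc hcon
      rw [inv_inv] at h6
      refine co_ne (h := h) hi₀ (fun e => ?_) h6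
      have h7 := congrFun e i
      have h8 := hLa' a
      rw [h7, hLb'] at h8
      exact absurd h8 (lt_irrefl 0))
  rw [Fintype.card_fin] at key2
  omega

end Cfsg.Agent.H2.Ppd
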