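import Cfsg.Agent.H2.Ppd.Weight
import Cfsg.Agent.H905.MdH
import Cfsg.Agent.H218.SdLift
import Cfsg.Agent.H915.LD

/-!
# The dimensions of the representations of the groups of Lie type in their characteristic (helper2)

`P ≤ GL(ι, F)` a core, `Soc P ≃ G`, `G` a group with a root group datum in characteristic `p = char F`, commutative
torus, `θ i : SL(2, E i) → G`, `|E i| = p ^ f i`, `|F| = p ^ a`.

* **`exists_J`** : a set `J` of nodes, `J ≠ univ`, such that
  - `|W : W_J| * 2 ^ (f i / gcd a (f i)) ≤ 2 |ι|` for `i ∉ J`,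
  - `|La| * 2 ^ (f i / gcd a (f i)) + |Lb| ≤ |ι|` if `Jᶜ = {i₀}`, `La` / `Lb` lists of vectors in the orbit of the `i₀`-th
    coordinate, positive / zero at the node `i`.
-/

set_option autoImplicit false
set_option linter.unusedSectionVars false
set_option linter.style.haveILetI false

namespace Cfsg.Agent.H2.Ppd

open Matrix CoxeterSystem Cfsg.Agent.ChevalleyStructure.CoxeterGeom Cfsg.Agent.Tits.Roots Cfsg.Agent.Tits.Core
  Cfsg.Agent.Tits.Exchange Cfsg.Agent.Nodes.Reps Cfsg.Agent.Nodes.BNOf Cfsg.Agent.Nodes.StabComb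
  Cfsg.Agent.Nodes.Bruhat Cfsg.Agent.Nodes.OppDec Cfsg.Agent.Nodes.LeviDec Cfsg.Agent.KFacts.RgdOpp
  Cfsg.Agent.Omega.CR Cfsg.Agent.Omega.FOne.Lift.Sd Cfsg.Agent.H905.Md Cfsg.Agent.H911 Cfsg.Agent.H51.Mult
open Cfsg.Agent.H875.Fn Cfsg.Agent.H392.TD Cfsg.Agent.H905.DC Cfsg.Agent.H915.LD Cfsg.Agent.H218.SdLift
open Cfsg.Agent.Nodes.RGDLift Cfsg.Agent.Nodes.RGDLib Cfsg.Agent.KFacts.MulOdd.Inst Cfsg.Agent.KFacts.MulOdd.Shrink
open Cfsg.Agent.H911.SLTwo (U Lo hh ww)
open Cfsg.Agent.ChevalleyStructure.SL2Hom (up lo)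
open Cfsg.Agent.Nodes.RGDFoldSL (wS hS coe_wS coe_hS lo_eq)
open Cfsg.Agent.H64.CrossChev (Nd)
open Cfsg Cfsg.Geo
open scoped MatrixGroups

universe u v w

section nd

variable {I W Y : Type*} [Fintype I] [DecidableEq I] [Group W] [Group Y] {M : CoxeterMatrix I}
  {cs : CoxeterSystem M W} {A : I → I → ℤ} {h : IsCartan M A} {p : ℕ} {T : Subgroup Y} {n : I → Y}
  {X : (I → ℤ) → Subgroup Y} {i : I} {E : Type*} [Field E] {θ : SL(2, E) →* Y} (R : RGD cs h p T n X)
  (N : Nd T n X i θ)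

theorem U_eq (t : E) : (U t : SL(2, E)) = up t := rfl
theorem Lo_eq (t : E) : (Lo t : SL(2, E)) = lo t := rfl
theorem ww_eq : (ww : SL(2, E)) = wS 1 := by
  apply Subtype.ext
  rw [coe_wS one_ne_zero, inv_one]
  rfl
theorem hh_eq (s : Eˣ) : (hh s : SL(2, E)) = hS (s : E) := by
  apply Subtype.ext
  rw [coe_hS s.ne_zero, ← Units.val_inv_eq_inv_val]
  rfl

include N

theorem nd_U (t : E) : θ (U t) ∈ X (sr i) := (N.mem _).2 ⟨t, by rw [U_eq]⟩

theorem nd_hh (s : Eˣ) : θ (hh s) ∈ T := by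
  rw [hh_eq]
  exact N.dia _ s.ne_zero

include R

theorem nd_Lo (t : E) : θ (Lo t) ∈ X (-sr i) := by
  rw [Cfsg.Agent.H64.CrossChev.Nd.conj_eq R N]
  exact ⟨-t, by rw [Lo_eq, lo_eq]⟩

theorem nd_ww : Rp cs R.nsys (cs.simple i) (θ ww) := by
  rw [ww_eq, N.w]
  exact rp_simple cs R.nsys i

end nd

/-- **The dimensions.** -/
theorem exists_J {ι : Type} [Fintype ι] [DecidableEq ι] {F : Type u} [Field F] [Finite F] {P : Subgroup (GL ι F)}
    (hC : Core P) {I W : Type*} {G : Type v} [Fintype I] [DecidableEq I] [Group W] [Finite W] [Group G]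
    {M : CoxeterMatrix I} {cs : CoxeterSystem M W} {A : I → I → ℤ} {h : IsCartan M A} {p : ℕ} [hp : Fact p.Prime]
    [CharP F p] {T : Subgroup G} {n : I → G} {X : (I → ℤ) → Subgroup G} (R : RGD cs h p T n X)
    (hgen : G1 cs h X = ⊤) (hT : ∀ s ∈ T, ∀ t ∈ T, s * t = t * s) {E : I → Type} [∀ i, Field (E i)]
    [∀ i, Fintype (E i)] [∀ i, CharP (E i) p] {θ : ∀ i, SL(2, E i) →* G} (N : ∀ i, Nd T n X i (θ i))
    (e : Soc P ≃* G) {a : ℕ} (hF : Nat.card F = p ^ a) {f : I → ℕ} (hE : ∀ i, Fintype.card (E i) = p ^ f i) :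
    ∃ J : Set I, (∃ i, i ∉ J) ∧
      (∀ i, i ∉ J → (WJ cs J).index * 2 ^ (f i / Nat.gcd a (f i)) ≤ 2 * Fintype.card ι) ∧
      (∀ i₀, i₀ ∉ J → (∀ i, i ∉ J → i = i₀) → ∀ (i : I) (La Lb : List (I → ℤ)), (∀ v ∈ La, 0 < v i) →
        (∀ v ∈ Lb, v i = 0) → La.Nodup → Lb.Nodup → (∀ v ∈ La, ∃ w, co cs h i₀ w = v) →
        (∀ v ∈ Lb, ∃ w, co cs h i₀ w = v) → La.length * 2 ^ (f i / Nat.gcd a (f i)) + Lb.length ≤ Fintype.card ι) := by
  classical
  have hfin : Finite P := inferInstance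
  have hsimple := hC.simple
  -- the covering group, in universe zero
  let Y : Type := Shrink.{0} P
  let ψ : Y ≃* P := Shrink.mulEquiv
  have hYf : Finite Y := Finite.of_equiv _ ψ.symm.toEquiv
  let φ : Y →* GL ι F := P.subtype.comp ψ.toMonoidHom
  have hφ : φ.range = P := by
    rw [MonoidHom.range_comp, MonoidHom.range_eq_top.2 (show Function.Surjective ψ.toMonoidHom from ψ.surjective),
      ← MonoidHom.range_eq_map, Subgroup.range_subtype]
  have hφi : Function.Injective φ := Subtype.val_injective.comp ψ.injective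
  let π : Y →* G := (prj e).comp ψ.toMonoidHom
  have hker : ∀ y : Y, y ∈ π.ker ↔ ψ y ∈ (scalars ι F).subgroupOf P := by
    intro y
    rw [← prj_ker e, MonoidHom.mem_ker, MonoidHom.mem_ker]
    rfl
  have hd : PCE π := by
    refine ⟨(prj_surjective e).comp ψ.surjective, ?_, ?_⟩
    · intro y hy
      rw [Subgroup.mem_center_iff]
      intro z
      apply ψ.injective
      rw [map_mul, map_mul]
      exact Subgroup.mem_center_iff.1 (subgroupOf_scalars_le P ((hker y).1 hy)) (ψ z)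
    · have hP := commutator_eq_top_of_perfect hC.perfect
      have h1 := congrArg (Subgroup.map ψ.symm.toMonoidHom) hP
      rw [commutator_def, Subgroup.map_commutator] at h1
      have h2 : (⊤ : Subgroup P).map ψ.symm.toMonoidHom = ⊤ := by
        rw [← MonoidHom.range_eq_map, MonoidHom.range_eq_top]
        exact ψ.symm.surjective
      rw [h2] at h1
      exact h1
  have hcop : (Nat.card π.ker).Coprime p := by
    refine Nat.Coprime.coprime_dvd_left ?_ (card_scalars_coprime (p := p) P)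
    refine Subgroup.card_dvd_of_injective ((ψ.toMonoidHom.comp π.ker.subtype).codRestrict ((scalars ι F).subgroupOf P)
      (fun x => (hker _).1 x.2)) ?_
    intro x y e
    have e1 : ψ (x : Y) = ψ (y : Y) := congrArg (fun z : (scalars ι F).subgroupOf P => (z : P)) e
    exact Subtype.ext (ψ.injective e1)
  obtain ⟨θ', hθ', R', hgen', hT', N'⟩ := exists_lift hp.out hd hcop R hgen hT N
  -- the representation
  have hne : Nonempty ι := by
    by_contra hcon
    rw [not_nonempty_iff] at hcon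
    exact absurd (hC.nonabelian) (not_not.2 ⟨⟨fun a b => by
      obtain ⟨a, rfl⟩ := QuotientGroup.mk_surjective a
      obtain ⟨b, rfl⟩ := QuotientGroup.mk_surjective b
      rw [Subsingleton.elim a b]⟩⟩)
  have hchar : CharP (AlgebraicClosure F) p := charP_of_injective_algebraMap (algebraMap F _).injective p
  have hGG : GG cs h (T.comap π) (fun x => lft p π (X x)) = ⊤ := gg_eq_top hgen'
  have hirr : ∀ L : Submodule (AlgebraicClosure F) (ι → AlgebraicClosure F),
      Ivt (lin (acRep φ)) (GG cs h (T.comap π) (fun x => lft p π (X x))) L → L = ⊥ ∨ L = ⊤ :=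
    fun L hL => acRep_irr hφ (H920.span_eq_top hC.absIrred) hGG L hL
  obtain ⟨c, hc, hc0, χ, hχ⟩ := exists_chi R' hirr hT'
  have hD := finrank_D R' hirr hT'
  have hdim : Module.finrank (AlgebraicClosure F) (ι → AlgebraicClosure F) = Fintype.card ι :=
    Module.finrank_fintype_fun_eq_card _
  refine ⟨Jx cs h (fun x => lft p π (X x)) (lin (acRep φ)), ?_, ?_, ?_⟩
  · have h1 : Jx cs h (fun x => lft p π (X x)) (lin (acRep φ)) ≠ Set.univ := by
      refine Jx_ne_univ R' hirr hgen' ?_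
      by_contra hcon
      push Not at hcon
      have h1 : ∀ y : Y, y = 1 := fun y => acRep_injective hφi (hcon y)
      exact absurd (hC.nonabelian) (not_not.2 ⟨⟨fun a b => by
        obtain ⟨a, rfl⟩ := QuotientGroup.mk_surjective a
        obtain ⟨b, rfl⟩ := QuotientGroup.mk_surjective b
        rw [ψ.symm.injective ((h1 (ψ.symm a)).trans (h1 (ψ.symm b)).symm)]⟩⟩)
    exact (Set.ne_univ_iff_exists_notMem _).1 h1
  · intro i hi
    obtain ⟨j⟩ := exists_emb F (E i) p
    have h1 := le_Le R' hGG hφ hC.absIrred hF (hE i) j hc hc0 hχ (θ' i) (i := i) (nd_U (N' i)) (nd_Lo R' (N' i))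
      (nd_ww R' (N' i)) (nd_hh (N' i)) hi
    have h2 : 1 ≤ f i / Nat.gcd a (f i) := by
      have h3 : 0 < f i := by
        rcases Nat.eq_zero_or_pos (f i) with h0 | h0
        · have h4 := hE i
          rw [h0, pow_zero] at h4
          have h5 := Fintype.one_lt_card (α := E i)
          omega
        · exact h0
      exact Nat.div_pos (Nat.le_of_dvd h3 (Nat.gcd_dvd_right _ _)) (Nat.gcd_pos_of_pos_right _ h3)
    have h3 : 2 ≤ 2 ^ (f i / Nat.gcd a (f i)) := by
      calc 2 = 2 ^ 1 := rfl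
        _ ≤ _ := Nat.pow_le_pow_right (by norm_num) h2
    have h4 := edge_bound R' hirr hD i (h3.trans h1)
    rw [hdim] at h4
    exact (Nat.mul_le_mul_left _ h1).trans h4
  · intro i₀ hi₀ hJ i La Lb h1 h2 h3 h4 h5 h6
    obtain ⟨j⟩ := exists_emb F (E i) p
    have h7 := levi_count j R' hirr hi₀ hJ (θ' i) (i := i) (nd_U (N' i)) (nd_Lo R' (N' i))
      (nd_ww R' (N' i)) hc hc0 La Lb h1 h2 h3 h4 h5 h6 (2 ^ (f i / Nat.gcd a (f i)))
      (fun w g hg => exists_weight R' hGG hφ hC.absIrred hF (hE i) j hc hc0 hχ (θ' i) (nd_hh (N' i)) hg)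
    rwa [hdim] at h7

end Cfsg.Agent.H2.Ppd
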