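import Cfsg.Agent.H64.CrossChev
import Cfsg.Agent.H905.DCWrap

/-!
# Root group data with `SL₂`-nodes of perfect central extensions (helper2)

`π : L → G` a perfect central extension with kernel prime to `p`; `G` a finite group with a root group datum in
characteristic `p`, homomorphisms `θ i : SL(2, E i) → G` onto the rank one groups (`Nd`) and a commutative torus.

* `inj_Lv` : `π` is injective on the lifted rank one groups;
* **`exists_lift`** : `L` has the same data.
-/

set_option autoImplicit false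
set_option linter.unusedSectionVars false
set_option linter.style.haveILetI false

namespace Cfsg.Agent.H2.Ppd

open CoxeterSystem Cfsg.Agent.ChevalleyStructure.CoxeterGeom Cfsg.Agent.Tits.Roots
  Cfsg.Agent.Nodes.Reps Cfsg.Agent.Nodes.BNOf Cfsg.Agent.Nodes.RGDLib Cfsg.Agent.Nodes.RGDLift
  Cfsg.Agent.KFacts.MulOdd.Inst Cfsg.Agent.KFacts.MulOdd.Shrink Cfsg.Agent.KFacts.MulOdd.Main
  Cfsg.Agent.H67 Cfsg.Agent.H67.Cross Cfsg.Agent.H51.Mult
open Cfsg.Agent.ChevalleyStructure.SL2Hom (up lo mem_closure_SL2)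
open Cfsg.Agent.Nodes.RGDFoldSL (wS hS coe_wS coe_hS lo_eq)
open Cfsg.Agent.KFacts.MulOdd.Node (up_zero up_mul up_inv hS_up hS_one hS_neg_one eq_of_lower_zero eq_of_lower_ne
  lower_zero_of_mul eq_one_of_mem)
open Cfsg.Agent.H64.CrossChev (Nd noCE_SL)
open scoped MatrixGroups

theorem exists_hom_lift {S L G : Type*} [Group S] [Group L] [Group G] (π : L →* G) (H : Subgroup L)
    (hinj : ∀ x ∈ H, π x = 1 → x = 1) (θ : S →* G) (hθ : θ.range ≤ H.map π) :
    ∃ θ' : S →* L, (∀ g, θ' g ∈ H) ∧ ∀ g, π (θ' g) = θ g := by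
  have hex : ∀ g, ∃ x ∈ H, π x = θ g := fun g => hθ ⟨g, rfl⟩
  choose f hf hf' using hex
  have huniq : ∀ x ∈ H, ∀ y ∈ H, π x = π y → x = y := by
    intro x hx y hy e
    have h1 := hinj (x⁻¹ * y) (mul_mem (inv_mem hx) hy) (by rw [map_mul, map_inv, e, inv_mul_cancel])
    exact inv_mul_eq_one.1 h1
  refine ⟨MonoidHom.mk' f fun a b => huniq _ (hf _) _ (mul_mem (hf a) (hf b)) ?_, hf, hf'⟩
  rw [hf', map_mul, map_mul, hf', hf']

theorem up_pow {F : Type*} [Field F] (a : F) (k : ℕ) : (up a : SL(2, F)) ^ k = up (k * a) := by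
  induction k with
  | zero => rw [pow_zero, Nat.cast_zero, zero_mul, up_zero]
  | succ k ih => rw [pow_succ, ih, up_mul, Nat.cast_succ, add_mul, one_mul]

section lift

variable {I W G : Type*} [Fintype I] [DecidableEq I] [Group W] [Finite W] [Group G] {L : Type} [Group L] [Finite L]
  {M : CoxeterMatrix I} {cs : CoxeterSystem M W} {A : I → I → ℤ} {h : IsCartan M A} {p : ℕ} {T : Subgroup G}
  {n : I → G} {X : (I → ℤ) → Subgroup G} {π : L →* G}
  {E : I → Type} [∀ i, Field (E i)] [∀ i, Finite (E i)] [∀ i, CharP (E i) p] {θ : ∀ i, SL(2, E i) →* G}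

/-- `π` is injective on the lifted rank one groups. -/
theorem inj_Lv (hp : p.Prime) (hd : PCE π) (hcop : (Nat.card π.ker).Coprime p) (R : RGD cs h p T n X)
    (N : ∀ i, Nd T n X i (θ i)) (i : I) {x : L} (hx : x ∈ Lv (fun x => lft p π (X x)) i) (hπ : π x = 1) : x = 1 := by
  have hG : Finite G := Finite.of_surjective π hd.surj
  refine H64.Cross.inf_ker_eq hp hd hcop R (fun i r hr hrd => (N i).noCE R (noCE_SL hp hr ?_)) i hx hπ
  rintro rfl
  have := Nat.Coprime.eq_one_of_dvd hcop.symm hrd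
  exact hr.one_lt.ne' this

theorem map_Lv (hp : p.Prime) (hd : PCE π) (hcop : (Nat.card π.ker).Coprime p) (R : RGD cs h p T n X) (i : I) :
    (Lv (fun x => lft p π (X x)) i).map π = Lv X i := by
  haveI : Fact p.Prime := ⟨hp⟩
  unfold Lv
  rw [Subgroup.map_sup, map_lft hd.cen hcop hd.surj (R.pgrp i),
    map_lft hd.cen hcop hd.surj (R.pgrp' (isRoot_sr cs h i).neg)]

/-- **The lifted data.** -/
theorem exists_lift (hp : p.Prime) (hd : PCE π) (hcop : (Nat.card π.ker).Coprime p) (R : RGD cs h p T n X)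
    (hgen : G1 cs h X = ⊤) (hT : ∀ s ∈ T, ∀ t ∈ T, s * t = t * s) (N : ∀ i, Nd T n X i (θ i)) :
    ∃ θ' : ∀ i, SL(2, E i) →* L, (∀ i g, π (θ' i g) = θ i g) ∧
      RGD cs h p (T.comap π) (fun i => θ' i (wS 1)) (fun x => lft p π (X x)) ∧
      G1 cs h (fun x => lft p π (X x)) = ⊤ ∧
      (∀ s ∈ T.comap π, ∀ t ∈ T.comap π, s * t = t * s) ∧
      ∀ i, Nd (T.comap π) (fun i => θ' i (wS 1)) (fun x => lft p π (X x)) i (θ' i) := by
  haveI : Fact p.Prime := ⟨hp⟩
  have hG : Finite G := Finite.of_surjective π hd.surj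
  have hinj : ∀ i, ∀ x ∈ Lv (fun x => lft p π (X x)) i, π x = 1 → x = 1 := fun i x hx h1 =>
    inj_Lv hp hd hcop R N i hx h1
  have hmap : ∀ i, (Lv (fun x => lft p π (X x)) i).map π = Lv X i := fun i => map_Lv hp hd hcop R i
  have hex : ∀ i, ∃ θ' : SL(2, E i) →* L, (∀ g, θ' g ∈ Lv (fun x => lft p π (X x)) i) ∧ ∀ g, π (θ' g) = θ i g := by
    intro i
    refine exists_hom_lift π _ (hinj i) (θ i) ?_
    rw [hmap i, (N i).range R]
    exact le_rfl
  choose θ' h1 h2 using hex
  have hn : ∀ i, π (θ' i (wS 1)) = n i := fun i => by rw [h2, (N i).w]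
  have R' : RGD cs h p (T.comap π) (fun i => θ' i (wS 1)) (fun x => lft p π (X x)) :=
    rgd_lift hd.cen hcop hd.surj R hn
  have hgen' : G1 cs h (fun x => lft p π (X x)) = ⊤ := by
    obtain ⟨-, -, -, h3⟩ := H905.DC.exists_rgd_lift hd.perf hd.cen hcop hd.surj R hgen
    exact h3
  have hcomm : ∀ s ∈ T.comap π, ∀ t ∈ T.comap π, s * t = t * s := by
    intro s hs t ht
    have key : T.comap π ≤ Subgroup.centralizer ((T.comap π : Subgroup L) : Set L) := by
      refine (torus_le R' hgen').trans (iSup_le fun i x hx => ?_)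
      obtain ⟨hxT, hxL⟩ := Subgroup.mem_inf.1 hx
      rw [Subgroup.mem_centralizer_iff]
      intro y hy
      have h3 : y * x * y⁻¹ ∈ Lv (fun x => lft p π (X x)) i := by
        have h4 := cj_t_Lv R' (t := y) hy i
        rw [← h4]
        exact conj_mem_cj.2 hxL
      have h5 : y * x * y⁻¹ * x⁻¹ = 1 := by
        refine hinj i _ (mul_mem h3 (inv_mem hxL)) ?_
        rw [map_mul, map_mul, map_mul, map_inv, map_inv, hT _ hy _ hxT]
        group
      rw [mul_inv_eq_one, mul_inv_eq_iff_eq_mul] at h5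
      exact h5
    exact Subgroup.mem_centralizer_iff.1 (key ht) s hs
  refine ⟨θ', h2, R', hgen', hcomm, fun i => ⟨?_, ?_, ?_, rfl, ?_⟩⟩
  · intro y
    constructor
    · intro hy
      have h3 := (mem_lft hd.cen (R.pgrp i)).1 hy
      obtain ⟨a, ha⟩ := ((N i).mem _).1 h3.1
      refine ⟨a, ?_⟩
      have hyL : y ∈ Lv (fun x => lft p π (X x)) i := (le_sup_left : lft p π (X (sr i)) ≤ _) hy
      have h4 : (θ' i (up a))⁻¹ * y = 1 := hinj i _ (mul_mem (inv_mem (h1 i _)) hyL) (by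
        rw [map_mul, map_inv, h2, ha, inv_mul_cancel])
      exact inv_mul_eq_one.1 h4
    · rintro ⟨a, rfl⟩
      refine (mem_lft hd.cen (R.pgrp i)).2 ⟨?_, 1, ?_⟩
      · rw [h2]
        exact ((N i).mem _).2 ⟨a, rfl⟩
      · rw [pow_one, ← map_pow, up_pow, CharP.cast_eq_zero, zero_mul, up_zero, map_one]
  · intro a ha
    refine (N i).inj a ?_
    rw [← h2, ha, map_one]
  · intro c hc
    rw [Subgroup.mem_comap, h2]
    exact (N i).dia c hc
  · intro h3
    refine (N i).neg ?_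
    rw [← h2, h3, map_one]

end lift

end Cfsg.Agent.H2.Ppd
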