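import Cfsg.Agent.H392.TD.Count

/-!
# Digits and fields of definition (helper2)

* **`two_pow_le_card_SS`** : `1 ≤ r ≤ p^b - 1`, `p^b - 1 ∣ r (p^a - 1)` : `2^(b / gcd a b) ≤ |SS p r|`;
* `sum_le_fix` : the count of `H392.TD.sum_le` with fixed vectors.
-/

set_option autoImplicit false
set_option linter.unusedSectionVars false
set_option linter.style.haveILetI false

namespace Cfsg.Agent.H2.Ppd

open Cfsg.Agent.H875.Fn Cfsg.Agent.H392.TD Matrix
open Cfsg.Agent.H911.SLTwo (U Lo hh ww)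

theorem pow_sub_one_eq {m : ℕ} (hm : 1 ≤ m) (s : ℕ) : m ^ s - 1 = (∑ i ∈ Finset.range s, m ^ i) * (m - 1) := by
  have h1 : (∑ i ∈ Finset.range s, m ^ i) * (m - 1) + 1 = m ^ s := by
    induction s with
    | zero => simp
    | succ s ih =>
      rw [Finset.sum_range_succ, add_mul]
      obtain ⟨c, rfl⟩ : ∃ c, m = c + 1 := ⟨m - 1, by omega⟩
      rw [Nat.add_sub_cancel] at ih ⊢
      rw [pow_succ (c + 1) s]
      nlinarith [ih]
  omega

theorem two_pow_le_card_SS {p : ℕ} [hp : Fact p.Prime] {a b r : ℕ} (ha : 0 < a) (hr0 : r ≠ 0)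
    (hr : r ≤ p ^ b - 1) (hd : p ^ b - 1 ∣ r * (p ^ a - 1)) : 2 ^ (b / Nat.gcd a b) ≤ (SS p r).card := by
  have hp1 := hp.out.one_lt
  set g := Nat.gcd a b with hg
  have hg0 : 0 < g := Nat.gcd_pos_of_pos_left _ ha
  obtain ⟨s, hs⟩ : g ∣ b := Nat.gcd_dvd_right a b
  have hbg : b / g = s := by rw [hs, Nat.mul_div_cancel_left _ hg0]
  have hpg : 1 ≤ p ^ g := Nat.one_le_pow _ _ (by omega)
  have hpg' : 0 < p ^ g - 1 := by
    have : 1 < p ^ g := Nat.one_lt_pow hg0.ne' hp1
    omega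
  have h1 : p ^ b - 1 ∣ r * (p ^ g - 1) := by
    have h2 := Nat.dvd_gcd hd (Dvd.intro_left r rfl : p ^ b - 1 ∣ r * (p ^ b - 1))
    rwa [Nat.gcd_mul_left, Nat.pow_sub_one_gcd_pow_sub_one] at h2
  have h3 : p ^ b - 1 = (∑ i ∈ Finset.range s, (p ^ g) ^ i) * (p ^ g - 1) := by
    rw [hs, pow_mul, pow_sub_one_eq hpg]
  rw [h3] at h1 hr
  obtain ⟨c, hc⟩ := Nat.dvd_of_mul_dvd_mul_right hpg' h1
  have hG : 0 < ∑ i ∈ Finset.range s, (p ^ g) ^ i := by
    rcases Nat.eq_zero_or_pos (∑ i ∈ Finset.range s, (p ^ g) ^ i) with h0 | h0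
    · rw [h0, zero_mul] at hr
      omega
    · exact h0
  have hc0 : c ≠ 0 := by
    rintro rfl
    rw [mul_zero] at hc
    exact hr0 hc
  have hcl : c < p ^ g := by
    have h4 : c ≤ p ^ g - 1 := by
      refine Nat.le_of_mul_le_mul_left ?_ hG
      rw [← hc]
      exact hr
    omega
  rw [hbg, hc, mul_comm, card_SS_geom hcl s]
  exact Nat.pow_le_pow_left (two_le_card_SS hc0) s

section emb

universe u v w

variable {E : Type u} [Field E] [Fintype E] {k : Type v} [Field k] (j : E →+* k) {V : Type w} [AddCommGroup V]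
  [Module k V] [FiniteDimensional k V] {Q : SpecialLinearGroup (Fin 2) E →* Module.End k V}
  (p : ℕ) [hp : Fact p.Prime] [CharP k p]

/-- **The count with fixed vectors.** -/
theorem sum_le_fix {α β : Type} [Fintype α] [DecidableEq α] [Fintype β] [DecidableEq β] (v : α → V)
    (φ : α → Module.Dual k V) (r : α → ℕ)
    (hr0 : ∀ a, r a ≠ 0) (hr : ∀ a, r a ≤ Fintype.card E - 1)
    (hLo : ∀ a t x, φ a (Q (Lo t) x) = φ a x) (hU : ∀ a t, Q (U t) (v a) = v a)
    (hh' : ∀ a (s : Eˣ), Q (hh s) (v a) = (j (s : E) ^ r a) • v a)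
    (h1 : ∀ a, φ a (v a) ≠ 0) (h2 : ∀ a b, a ≠ b → φ a (v b) = 0) (h3 : ∀ a b, φ a (Q ww (v b)) = 0)
    (u : β → V) (ψ : β → Module.Dual k V) (k1 : ∀ b, ψ b (u b) ≠ 0) (k2 : ∀ b b', b ≠ b' → ψ b (u b') = 0)
    (k3 : ∀ b g, Q g (u b) = u b) (k4 : ∀ a b, φ a (u b) = 0) :
    ∑ a, (SS p (r a)).card + Fintype.card β ≤ Module.finrank k V := by
  set S : Submodule k V := Submodule.span k (Set.range u) with hS
  have hSQ : ∀ g, S ≤ S.comap (Q g) := by
    intro g
    rw [hS, Submodule.span_le]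
    rintro _ ⟨b, rfl⟩
    have h0 : Q g (u b) ∈ S := by
      rw [k3, hS]
      exact Submodule.subset_span ⟨b, rfl⟩
    exact h0
  have hSφ : ∀ a, S ≤ LinearMap.ker (φ a) := by
    intro a
    rw [hS, Submodule.span_le]
    rintro _ ⟨b, rfl⟩
    exact k4 a b
  have hind : LinearIndependent k u := by
    rw [Fintype.linearIndependent_iff]
    intro c hc b
    have h5 := congrArg (ψ b) hc
    rw [map_sum, map_zero, Finset.sum_eq_single b (fun b' _ hb => by
      rw [map_smul, k2 b b' (Ne.symm hb), smul_zero]) (fun h => absurd (Finset.mem_univ b) h), map_smul,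
      smul_eq_mul, mul_eq_zero] at h5
    exact h5.resolve_right (k1 b)
  have hcard : Module.finrank k S = Fintype.card β := finrank_span_eq_card hind
  let Q' : SpecialLinearGroup (Fin 2) E →* Module.End k (V ⧸ S) :=
    { toFun := fun g => S.mapQ S (Q g) (hSQ g)
      map_one' := by
        ext x
        rw [LinearMap.comp_apply, LinearMap.comp_apply, Submodule.mkQ_apply, Submodule.mapQ_apply, map_one]
        rfl
      map_mul' := fun g g' => by
        ext x
        rw [LinearMap.comp_apply, LinearMap.comp_apply, Submodule.mkQ_apply, Submodule.mapQ_apply, map_mul]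
        rfl }
  have hQ' : ∀ g x, Q' g (S.mkQ x) = S.mkQ (Q g x) := fun g x => rfl
  have key := sum_le (j := j) (Q := Q') p (fun a => S.mkQ (v a)) (fun a => S.liftQ (φ a) (hSφ a)) r hr0 hr
    (fun a t x => by
      obtain ⟨x, rfl⟩ := S.mkQ_surjective x
      rw [hQ', Submodule.mkQ_apply, Submodule.mkQ_apply, Submodule.liftQ_apply, Submodule.liftQ_apply]
      exact hLo a t x)
    (fun a t => by rw [hQ', hU]) (fun a s => by rw [hQ', hh', map_smul])
    (fun a => by rw [Submodule.mkQ_apply, Submodule.liftQ_apply]; exact h1 a)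
    (fun a b hab => by rw [Submodule.mkQ_apply, Submodule.liftQ_apply]; exact h2 a b hab)
    (fun a b => by rw [hQ', Submodule.mkQ_apply, Submodule.liftQ_apply]; exact h3 a b)
  have h6 := S.finrank_quotient_add_finrank
  omega

end emb

end Cfsg.Agent.H2.Ppd
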