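import Cfsg.Agent.H2.Ppd.Levi
import Cfsg.Agent.H2.Ppd.Edge
import Cfsg.Agent.H2.Ppd.Node
import Cfsg.Agent.H905.MdR

/-!
# The weights of a representation over `F` (helper2)

`φ : Y → GL(ι, F)` absolutely irreducible, `R` a root group datum of `Y`, `c` a highest weight vector over the algebraic
closure, `θ : SL_2(E) → Y`, `|E| = p ^ b`, `|F| = p ^ a`.

* **`exists_weight`** : for `g` over `w ∈ W`: the character of `g⁻¹ θ(hh s) g` on `c` is `j s ^ r`, `1 ≤ r ≤ |E| - 1`,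
  `2 ^ (b / gcd a b) ≤ |SS p r|`;
* `le_Le` : `i ∉ J` : `2 ^ (b / gcd a b) ≤ dim Le {i}`.
-/

set_option autoImplicit false
set_option linter.unusedSectionVars false
set_option linter.style.haveILetI false

namespace Cfsg.Agent.H2.Ppd

open Matrix CoxeterSystem Cfsg.Agent.ChevalleyStructure.CoxeterGeom Cfsg.Agent.Tits.Roots Cfsg.Agent.Tits.Core
  Cfsg.Agent.Tits.Exchange Cfsg.Agent.Nodes.Reps Cfsg.Agent.Nodes.BNOf Cfsg.Agent.Nodes.StabComb
  Cfsg.Agent.Nodes.Bruhat Cfsg.Agent.Nodes.OppDec Cfsg.Agent.Nodes.LeviDec Cfsg.Agent.KFacts.RgdOpp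
  Cfsg.Agent.Omega.CR Cfsg.Agent.Omega.FOne.Lift.Sd Cfsg.Agent.H905.Md Cfsg.Agent.H911
open Cfsg.Agent.H875.Fn Cfsg.Agent.H392.TD Cfsg.Agent.H905.DC
open Cfsg.Agent.H911.SLTwo (U Lo hh ww)
open Cfsg Cfsg.Geo
open scoped MatrixGroups

/-- a field containing both -/
theorem exists_emb (F : Type*) [Field F] (E : Type*) [Field E] [Fintype E] (p : ℕ) [hp : Fact p.Prime] [CharP E p]
    [CharP F p] : Nonempty (E →+* AlgebraicClosure F) := by
  let _ : Algebra (ZMod p) E := ZMod.algebra E p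
  have hk : CharP (AlgebraicClosure F) p := charP_of_injective_ringHom (algebraMap F (AlgebraicClosure F)).injective p
  let _ : Algebra (ZMod p) (AlgebraicClosure F) := ZMod.algebra (AlgebraicClosure F) p
  exact ⟨(IsAlgClosed.lift (R := ZMod p) (S := E) (M := AlgebraicClosure F)).toRingHom⟩

/-- characters of a cyclic group embedded in a field -/
theorem exists_exp {A F k : Type*} [Group A] [Finite A] [Field F] [Field k] (j : F →+* k)
    (μ : A →* F) (hμ : Function.Injective μ) (χ : A →* k) :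
    ∃ θ : ℕ, 1 ≤ θ ∧ (∀ b : ℕ, 0 < b → (∀ t, μ t ^ b = 1) → θ ≤ b) ∧ ∀ t, χ t = j (μ t) ^ θ := by
  have hcyc : IsCyclic A := isCyclic_of_injective_ringHom μ hμ
  obtain ⟨g, hg⟩ := IsCyclic.exists_generator (α := A)
  set n := orderOf g with hn
  have hn0 : 0 < n := orderOf_pos g
  have h1 : orderOf (j (μ g)) = n := by
    have := orderOf_injective ((j : F →* k).comp μ) (j.injective.comp hμ) g
    exact this
  have hprim : IsPrimitiveRoot (j (μ g)) n := by
    rw [← h1]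
    exact IsPrimitiveRoot.orderOf _
  have h2 : χ g ^ n = 1 := by rw [← map_pow, pow_orderOf_eq_one, map_one]
  have : NeZero n := ⟨hn0.ne'⟩
  obtain ⟨i, hi, he⟩ := hprim.eq_pow_of_pow_eq_one h2
  have key : ∀ θ : ℕ, j (μ g) ^ θ = χ g → ∀ t, χ t = j (μ t) ^ θ := by
    intro θ hθ t
    obtain ⟨a, rfl⟩ := mem_powers_iff_mem_zpowers.2 (hg t)
    change χ (g ^ a) = j (μ (g ^ a)) ^ θ
    rw [map_pow, map_pow, map_pow, ← hθ, ← pow_mul, ← pow_mul, mul_comm]
  have hle : ∀ b : ℕ, 0 < b → (∀ t, μ t ^ b = 1) → n ≤ b := by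
    intro b hb h
    refine Nat.le_of_dvd hb (orderOf_dvd_of_pow_eq_one (hμ ?_))
    rw [map_pow, map_one, h g]
  by_cases hi0 : i = 0
  · refine ⟨n, hn0, hle, key n ?_⟩
    rw [hprim.pow_eq_one, ← he, hi0, pow_zero]
  · exact ⟨i, Nat.one_le_iff_ne_zero.2 hi0, fun b hb h => hi.le.trans (hle b hb h), key i he⟩

theorem hh_mul' {E : Type*} [Field E] (s t : Eˣ) : (hh (s * t) : SL(2, E)) = hh s * hh t := by
  apply H911.SLTwo.ext' <;>
  simp only [H911.SLTwo.m00, H911.SLTwo.m01, H911.SLTwo.m10, H911.SLTwo.m11, H911.SLTwo.hh00, H911.SLTwo.hh01,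
    H911.SLTwo.hh10, H911.SLTwo.hh11, Units.val_mul, mul_inv, mul_zero, zero_mul, add_zero, zero_add]

section Main

variable {I W Y : Type*} [Fintype I] [DecidableEq I] [Group W] [Group Y] {M : CoxeterMatrix I}
  {cs : CoxeterSystem M W} {A : I → I → ℤ} {h : IsCartan M A} {p : ℕ} {T : Subgroup Y} {n : I → Y}
  {X : (I → ℤ) → Subgroup Y} {F : Type*} [Field F] [Finite F] {ι : Type} [Fintype ι] [DecidableEq ι]
  {P : Subgroup (GL ι F)}

variable (R : RGD cs h p T n X) [Finite Y] [Finite W] [hp : Fact p.Prime] [CharP F p] [Nonempty ι]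
  (hG : GG cs h T X = ⊤) {φ : Y →* GL ι F} (hφ : φ.range = P)
  (hP : ActsAbsolutelyIrreducibly (matrixSet P))
  {E : Type*} [Field E] [Fintype E] [CharP E p] {a b : ℕ} (hF : Nat.card F = p ^ a) (hE : Fintype.card E = p ^ b)
  (j : E →+* AlgebraicClosure F)
  {c : ι → AlgebraicClosure F} (hc : c ∈ fx (lin (acRep φ)) (RGD.Sup X (RGD.Pos cs h)))
  (hc0 : c ≠ 0) {χ : Y → AlgebraicClosure F} (hχ : ∀ t ∈ T, lin (acRep φ) t c = χ t • c)
include R hG hφ hP hF hE j hc hc0 hχ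

/-- **The weights at one node.** -/
theorem exists_weight (θ : SL(2, E) →* Y) (hdia : ∀ s : Eˣ, θ (hh s) ∈ T) {w : W} {g : Y}
    (hg : Rp cs R.nsys w g) : ∃ r : ℕ, r ≠ 0 ∧ r ≤ Fintype.card E - 1 ∧ 2 ^ (b / Nat.gcd a b) ≤ (SS p r).card ∧
      ∀ s : Eˣ, lin (acRep φ) (g⁻¹ * θ (hh s) * g) c = (j (s : E) ^ r) • c := by
  have hT : ∀ t ∈ T, g⁻¹ * t * g ∈ T := by
    intro t ht
    have h1 := (Subgroup.mem_normalizer_iff.1 (inv_mem hg.mem_normalizer) t).1 ht
    rwa [inv_inv] at h1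
  have hmem : ∀ s : Eˣ, g⁻¹ * θ (hh s) * g ∈ T := fun s => hT _ (hdia s)
  have hinj := smul_left_injective (AlgebraicClosure F) hc0
  let χ' : Eˣ →* AlgebraicClosure F :=
    { toFun := fun s => χ (g⁻¹ * θ (hh s) * g)
      map_one' := by
        apply hinj
        change χ _ • c = (1 : AlgebraicClosure F) • c
        rw [← hχ _ (hmem 1), one_smul]
        have e : (hh (1 : Eˣ) : SL(2, E)) = 1 := by
          have h2 := hh_mul' (E := E) 1 1
          rw [mul_one] at h2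
          exact (mul_eq_left.1 h2.symm)
        rw [e, map_one, mul_one, inv_mul_cancel, rho_one]
      map_mul' := fun s t => by
        apply hinj
        change χ _ • c = (χ _ * χ _) • c
        rw [← hχ _ (hmem (s * t)), hh_mul', map_mul θ]
        have e : g⁻¹ * (θ (hh s) * θ (hh t)) * g = (g⁻¹ * θ (hh s) * g) * (g⁻¹ * θ (hh t) * g) := by group
        rw [e, rho_mul, hχ _ (hmem t), map_smul, hχ _ (hmem s), smul_smul, mul_comm] }
  have hχ' : ∀ s, χ' s = χ (g⁻¹ * θ (hh s) * g) := fun s => rfl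
  obtain ⟨r, hr1, hr2, hr3⟩ := exists_exp j (Units.coeHom E) Units.val_injective χ'
  have hEc : 1 < Fintype.card E := Fintype.one_lt_card
  have hr : r ≤ Fintype.card E - 1 := hr2 _ (by omega) fun t => by
    change (t : E) ^ _ = 1
    exact FiniteField.pow_card_sub_one_eq_one _ t.ne_zero
  have ha : 0 < a := by
    rcases Nat.eq_zero_or_pos a with h0 | h0
    · rw [h0, pow_zero] at hF
      have := Finite.one_lt_card (α := F)
      omega
    · exact h0
  refine ⟨r, by omega, hr, ?_, fun s => by rw [hχ _ (hmem s), ← hχ', hr3 s]; rfl⟩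
  rw [hE] at hr
  refine two_pow_le_card_SS ha (by omega) hr ?_
  -- the values lie in `F`
  have hFF : ∀ s : Eˣ, (j (s : E) ^ r) ^ Nat.card F = j (s : E) ^ r := by
    intro s
    have h1 := hr3 s
    rw [hχ'] at h1
    obtain ⟨x, hx⟩ := chi_mem R hG hφ hP hc hc0 hχ (hmem s)
    have h2 : j (s : E) ^ r = algebraMap F (AlgebraicClosure F) x := by rw [hx, h1]; rfl
    have := Fintype.ofFinite F
    rw [h2, ← map_pow, Nat.card_eq_fintype_card, FiniteField.pow_card]
  have hF1 : 1 ≤ Nat.card F := Nat.card_pos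
  have hone : ∀ s : Eˣ, s ^ (r * (Nat.card F - 1)) = 1 := by
    intro s
    have h1 := hFF s
    have h2 : (j (s : E) ^ r) ^ (Nat.card F - 1) = 1 := by
      have h3 : (j (s : E) ^ r) ^ (Nat.card F - 1) * (j (s : E) ^ r) = 1 * (j (s : E) ^ r) := by
        rw [← pow_succ, Nat.sub_add_cancel hF1, h1, one_mul]
      exact mul_right_cancel₀ (pow_ne_zero _ ((map_ne_zero j).2 s.ne_zero)) h3
    apply Units.ext
    apply j.injective
    rw [Units.val_pow_eq_pow_val, map_pow, pow_mul, h2, Units.val_one, map_one]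
  obtain ⟨u, hu⟩ := IsCyclic.exists_ofOrder_eq_natCard (α := Eˣ)
  have h4 : Nat.card Eˣ ∣ r * (Nat.card F - 1) := by
    rw [← hu]
    exact orderOf_dvd_of_pow_eq_one (hone u)
  rw [Nat.card_units, Nat.card_eq_fintype_card (α := E), hE, hF] at h4
  exact h4

/-- **The edge.** -/
theorem le_Le (θ : SL(2, E) →* Y) {i : I} (hU : ∀ t, θ (U t) ∈ X (sr i))
    (hLo : ∀ t, θ (Lo t) ∈ X (-sr i)) (hww : Rp cs R.nsys (cs.simple i) (θ ww)) (hdia : ∀ s : Eˣ, θ (hh s) ∈ T)
    (hi : i ∉ Jx cs h X (lin (acRep φ))) :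
    2 ^ (b / Nat.gcd a b) ≤ Module.finrank (AlgebraicClosure F) (Le cs h T X (lin (acRep φ)) {i}) := by
  have hchar : CharP (AlgebraicClosure F) p := charP_of_injective_algebraMap (algebraMap F _).injective p
  have hirr : ∀ L : Submodule (AlgebraicClosure F) (ι → AlgebraicClosure F),
      Ivt (lin (acRep φ)) (GG cs h T X) L → L = ⊥ ∨ L = ⊤ :=
    fun L hL => acRep_irr hφ (H920.span_eq_top hP) hG L hL
  obtain ⟨r, hr0, hr, hrc, hrχ⟩ := exists_weight R hG hφ hP hF hE j hc hc0 hχ θ hdia (rp_one (cs := cs))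
  refine hrc.trans ?_
  set L := Le cs h T X (lin (acRep φ)) {i} with hL
  have hLth : ∀ g : SL(2, E), ∀ v ∈ L, lin (acRep φ) (θ g) v ∈ L := by
    intro g v hv
    refine Ivt_Le R (ρ := lin (acRep φ)) ({i} : Set I) _ ?_ v hv
    have h3 : ∀ k : I, k ∉ ({i} : Set I) → (sr i : I → ℤ) k = 0 := fun k hk =>
      sr_ne fun e => hk (by rw [e]; rfl)
    refine closure_U_Lo (S := (LJ cs h T X {i}).comap θ) (fun t => ?_) (fun t => ?_) g
    · exact X_le_LJ ⟨isRoot_sr cs _ i, h3⟩ (hU t)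
    · exact X_le_LJ ⟨(isRoot_sr cs _ i).neg, fun k hk => by rw [Pi.neg_apply, h3 k hk, neg_zero]⟩ (hLo t)
  have hcL : c ∈ L := D_le_Le R _ hc
  let Q : SL(2, E) →* Module.End (AlgebraicClosure F) L :=
    { toFun := fun g => (lin (acRep φ) (θ g)).restrict (hLth g)
      map_one' := by
        ext v : 2
        rw [LinearMap.coe_restrict_apply, map_one, map_one]
        rfl
      map_mul' := fun g g' => by
        ext v : 2
        rw [LinearMap.coe_restrict_apply, map_mul, rho_mul]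
        rfl }
  obtain ⟨φ₀, hφ₀, hne⟩ := exists_pair_D R hirr hc hc0
  have hφUN : ∀ u ∈ UN cs h X, ∀ x, φ₀ (lin (acRep φ) u x) = φ₀ x := fun u hu x => dual_fx_pair R hφ₀ hu x
  have key := sum_le (j := j) (Q := Q) p (α := Unit) (fun _ => ⟨c, hcL⟩) (fun _ => φ₀.comp L.subtype) (fun _ => r)
    (fun _ => hr0) (fun _ => hr) (fun _ t x => ?_) (fun _ t => ?_) (fun _ s => ?_)
    (fun _ => hne) (fun a b hab => absurd rfl hab) (fun _ _ => ?_)
  · rwa [Finset.univ_unique, Finset.sum_singleton] at key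
  · change φ₀ (lin (acRep φ) (θ (Lo t)) x) = φ₀ x
    refine hφUN _ ?_ _
    exact X_le_UN (isRoot_sr cs _ i).neg (neg_nonpos.2 (sr_nonneg i)) (hLo t)
  · apply Subtype.ext
    change lin (acRep φ) (θ (U t)) c = c
    exact hc _ (RGD.le_Sup (S := RGD.Pos cs h) ⟨isRoot_sr cs h i, sr_nonneg i⟩ (hU t))
  · apply Subtype.ext
    change lin (acRep φ) (θ (hh s)) c = _
    have h2 := hrχ s
    rw [inv_one, one_mul, mul_one] at h2
    exact h2
  · change φ₀ (lin (acRep φ) (θ ww) c) = 0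
    by_contra hcon
    have h2 := mem_WJ_of_pair R hirr hφ₀ hww hc hcon
    exact hi (simple_mem_WJ h h2)

end Main

end Cfsg.Agent.H2.Ppd
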